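import Cfsg.Agent.Lib.LThreeFour.Linear
import Cfsg.Agent.Lib.InvChar.TwoConstrainedRankFour
import Cfsg.Agent.Lib.InvChar.RankFourQuotient

/-!
# A field of four elements commuting with the linear group

A linear group with the data `EData` commutes with an endomorphism `M` with `M² + M + 1 = 0`: if `O(Y) ≠ 1` a
generator of `O(Y)`; if `E` is normal an average; otherwise `Y ≅ A₅` and `M = y + y⁻¹` for `y` of order 5.
-/

set_option autoImplicit false
set_option linter.unusedSectionVars false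
set_option linter.style.haveILetI false

namespace CfsgLib.LThreeFour

open Subgroup

universe u

variable {W : Type u} [AddCommGroup W]

/-- The elements of `Y` commuting with `M`. -/
def commutant (Y : Subgroup (AddMonoid.End W)ˣ) (M : AddMonoid.End W) : Subgroup ↥Y where
  carrier := {y | Commute M ((y : (AddMonoid.End W)ˣ) : AddMonoid.End W)}
  one_mem' := Commute.one_right M
  mul_mem' := fun ha hb => by
    show Commute M _
    rw [Subgroup.coe_mul, Units.val_mul]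
    exact Commute.mul_right ha hb
  inv_mem' := fun ha => by
    show Commute M _
    rw [Subgroup.coe_inv]
    exact Commute.units_inv_right ha

theorem eq_top_of_le_card_A5 {K : Type u} [Group K] [IsSimpleGroup K] [Finite K] (h60 : Nat.card K = 60)
    {H : Subgroup K} (h : 20 ∣ Nat.card H) : H = ⊤ := by
  have hi : H.index ≤ 3 := by
    obtain ⟨k, hk⟩ := h
    have := H.card_mul_index
    rw [h60, hk, mul_assoc] at this
    have h3 : k * H.index = 3 := by omega
    exact Nat.le_of_dvd (by norm_num) ⟨k, by rw [mul_comm, h3]⟩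
  rcases (inferInstance : (MulAction.toPermHom K (K ⧸ H)).ker.Normal).eq_bot_or_eq_top with hk | hk
  · have := Nat.card_le_card_of_injective _ ((MonoidHom.ker_eq_bot_iff _).1 hk)
    rw [h60, Nat.card_perm, ← Subgroup.index_eq_card] at this
    have h6 : H.index.factorial ≤ 6 := (Nat.factorial_le hi).trans (by decide)
    omega
  · refine eq_top_iff.2 fun x _ => ?_
    have h2 : ((x * 1 : K) : K ⧸ H) = ((1 : K) : K ⧸ H) :=
      Equiv.congr_fun ((MonoidHom.mem_ker (f := MulAction.toPermHom K (K ⧸ H))).1 (hk ▸ mem_top x : x ∈ (MulAction.toPermHom K (K ⧸ H)).ker))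
        ((1 : K) : K ⧸ H)
    rw [mul_one] at h2
    simpa using inv_mem (QuotientGroup.eq.1 h2.symm)

/-- A cycle of length five and an involution inverting it in `A₅`. -/
theorem exists_inverted : ∃ y t : alternatingGroup (Fin 5), y ^ 5 = 1 ∧ y ≠ 1 ∧ t * t = 1 ∧ t ≠ 1 ∧
    t * y = y⁻¹ * t :=
  ⟨⟨finRotate 5, Equiv.Perm.mem_alternatingGroup.2 (by decide +kernel)⟩,
    ⟨Equiv.swap 0 4 * Equiv.swap 1 3, Equiv.Perm.mem_alternatingGroup.2 (by decide +kernel)⟩,
    by decide +kernel, by decide +kernel, by decide +kernel, by decide +kernel, by decide +kernel⟩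

namespace EData

variable {Y : Subgroup (AddMonoid.End W)ˣ} (D : EData Y)

include D

theorem finite_Y : Finite ↥Y :=
  haveI := D.finite_units
  inferInstance

/-- The Sylow 2-subgroup inside `Y`. -/
def E' : Subgroup ↥Y := D.E.subgroupOf Y

theorem card_E' : Nat.card D.E' = 4 := by
  rw [E', Nat.card_congr (subgroupOfEquivOfLe D.E_le).toEquiv, D.card_E]

theorem eq_E' {Q : Subgroup ↥Y} (hQ : IsPGroup 2 Q) (hle : D.E' ≤ Q) : Q = D.E' := by
  haveI : Fact (Nat.Prime 2) := ⟨Nat.prime_two⟩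
  haveI := D.finite_Y
  refine (eq_of_le_of_card_ge hle ?_).symm
  obtain ⟨k, hk⟩ := IsPGroup.iff_card.1 hQ
  rw [D.card_E', hk]
  by_contra hlt
  refine D.not_dvd ((?_ : 8 ∣ Nat.card Q).trans Q.card_subgroup_dvd_card)
  rw [hk]
  refine (show 8 = 2 ^ 3 by norm_num) ▸ pow_dvd_pow 2 ?_
  by_contra h3
  have : 2 ^ k ≤ 2 ^ 2 := Nat.pow_le_pow_right two_pos (by omega)
  norm_num at this
  omega

/-- `E` as a Sylow 2-subgroup of `Y`. -/
def syl : Sylow 2 ↥Y :=
  ⟨D.E', IsPGroup.of_card (n := 2) (by rw [D.card_E']; norm_num), fun hQ hle => D.eq_E' hQ hle⟩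

theorem sq_E' {e : ↥Y} (he : e ∈ D.E') : e * e = 1 :=
  Subtype.ext (Units.ext (DFunLike.ext _ _ fun v => D.invol (mem_subgroupOf.1 he) v))

/-- Squares have odd order. -/
theorem sq_odd (g : ↥Y) : ∃ n, Odd n ∧ (g * g) ^ n = 1 := by
  haveI : Fact (Nat.Prime 2) := ⟨Nat.prime_two⟩
  haveI := D.finite_Y
  obtain ⟨a, m, hm, ham⟩ := Nat.exists_eq_two_pow_mul_odd (orderOf_pos g).ne'
  refine ⟨m, hm, ?_⟩
  have hz : IsPGroup 2 (zpowers (g ^ m)) := by
    refine IsPGroup.of_card (n := a) ?_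
    rw [Nat.card_zpowers, orderOf_pow_of_dvd hm.pos.ne' (ham ▸ dvd_mul_left _ _), ham,
      Nat.mul_div_cancel _ hm.pos]
  obtain ⟨P, hP⟩ := hz.exists_le_sylow
  obtain ⟨c, hc⟩ := MulAction.exists_smul_eq ↥Y D.syl P
  have h := hP (mem_zpowers (g ^ m))
  rw [← hc, Sylow.coe_subgroup_smul, mem_pointwise_smul_iff_inv_smul_mem, ← map_inv, MulAut.smul_def,
    MulAut.conj_apply] at h
  have h2 := D.sq_E' h
  rw [inv_inv, show c⁻¹ * g ^ m * c * (c⁻¹ * g ^ m * c) = c⁻¹ * (g ^ m * g ^ m) * c by group] at h2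
  rw [(Commute.refl g).mul_pow]
  have h3 : g ^ m * g ^ m = c * 1 * c⁻¹ := by rw [← h2]; group
  rw [h3, mul_one, mul_inv_cancel]

theorem mem_E'_of_sq {u : ↥Y} (hu : ∀ e ∈ D.E', e * u = u * e) (h1 : u * u = 1) : u ∈ D.E' := by
  haveI : Fact (Nat.Prime 2) := ⟨Nat.prime_two⟩
  haveI := D.finite_Y
  have hz : IsPGroup 2 (zpowers u) := fun x => by
    obtain ⟨i, hi⟩ := mem_zpowers_iff.1 x.2
    refine ⟨1, Subtype.ext ?_⟩
    rw [pow_one, SubgroupClass.coe_pow, ← hi, pow_two, ← zpow_add, ← two_mul, zpow_mul, zpow_two, h1, one_zpow,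
      OneMemClass.coe_one]
  have hn : zpowers u ≤ normalizer (D.E' : Set ↥Y) := zpowers_le.2 (mem_normalizer_iff.2 fun e => by
    constructor
    · intro he
      rwa [← hu e he, mul_inv_cancel_right]
    · intro he
      have := hu _ he
      have h3 : e = u * e * u⁻¹ := mul_left_cancel (a := u) (by rw [← this]; group)
      rwa [← h3] at he)
  have := D.eq_E' (hz.to_sup_of_normal_right' D.syl.isPGroup' hn) le_sup_right
  exact this ▸ mem_sup_left (mem_zpowers u)

/-- Elements of order dividing three centralising `E` are determined at a point. -/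
theorem eq_of_point {x x' : ↥Y} (hx : ∀ e ∈ D.E', e * x = x * e) (hx' : ∀ e ∈ D.E', e * x' = x' * e)
    (h3 : x ^ 3 = 1) (h3' : x' ^ 3 = 1) {z : W} (hz : z ≠ 0)
    (h : ((x' : (AddMonoid.End W)ˣ) : AddMonoid.End W) z = ((x : (AddMonoid.End W)ˣ) : AddMonoid.End W) z) :
    x' = x := by
  set u := x⁻¹ * x' with hu_def
  have huc : ∀ e ∈ D.E', e * u = u * e := fun e he =>
    (Commute.mul_right (Commute.inv_right (hx e he)) (hx' e he)).eq
  have huz : ((u : (AddMonoid.End W)ˣ) : AddMonoid.End W) z = z := by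
    show (((x⁻¹ : ↥Y) : (AddMonoid.End W)ˣ) : AddMonoid.End W) (((x' : (AddMonoid.End W)ˣ) : AddMonoid.End W) z) = z
    rw [h, Subgroup.coe_inv]
    exact DFunLike.congr_fun (x : (AddMonoid.End W)ˣ).inv_mul z
  obtain ⟨n, hn, hn1⟩ := D.sq_odd u
  obtain ⟨e, he, he1⟩ := D.exists_E
  have hec : Commute ((u * u : ↥Y) : (AddMonoid.End W)ˣ) e := by
    have := huc ⟨e, D.E_le he⟩ (mem_subgroupOf.2 he)
    exact (congrArg Subtype.val (Commute.mul_right this this).eq).symm
  have h1 : ((u * u : ↥Y) : (AddMonoid.End W)ˣ) = 1 :=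
    D.eq_one_of_fix hn (congrArg Subtype.val hn1) he he1 hec hz (by
      show ((u : (AddMonoid.End W)ˣ) : AddMonoid.End W) (((u : (AddMonoid.End W)ˣ) : AddMonoid.End W) z) = z
      rw [huz, huz])
  have huE := D.mem_E'_of_sq huc (Subtype.ext h1)
  have hcx : Commute x u := (hx u huE).symm
  have hx'' : x' = x * u := by rw [hu_def, mul_inv_cancel_left]
  rw [hx'', hcx.mul_pow, h3, one_mul, pow_succ, pow_two, Subtype.ext h1 (a2 := (1 : ↥Y)), one_mul] at h3'
  rw [hx'', h3', mul_one]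

/-- Two quadratic elements of order three centralising `E` are equal or inverse. -/
theorem pair_cases {x x' : ↥Y} (hx : ∀ e ∈ D.E', e * x = x * e) (hx' : ∀ e ∈ D.E', e * x' = x' * e)
    (h3 : x ^ 3 = 1) (h3' : x' ^ 3 = 1) (hq : Quad ((x : (AddMonoid.End W)ˣ) : AddMonoid.End W))
    (hq' : Quad ((x' : (AddMonoid.End W)ˣ) : AddMonoid.End W)) : x' = x ∨ x' = x * x := by
  obtain ⟨e, he, he1⟩ := D.exists_E
  have hc : ∀ y : ↥Y, (∀ e ∈ D.E', e * y = y * e) → Commute ((y : (AddMonoid.End W)ˣ) : AddMonoid.End W) e :=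
    fun y hy => (congrArg (fun z : ↥Y => ((z : (AddMonoid.End W)ˣ) : AddMonoid.End W))
      (hy ⟨e, D.E_le he⟩ (mem_subgroupOf.2 he))).symm
  obtain ⟨z, hz, h | h⟩ := D.point_cases he he1 (hc x hx) (hc x' hx') hq hq'
  · exact Or.inl (D.eq_of_point hx hx' h3 h3' hz h)
  · exact Or.inr (D.eq_of_point (fun e he => (Commute.mul_right (hx e he) (hx e he)).eq) hx'
      (by rw [(Commute.refl x).mul_pow, h3, one_mul]) h3' hz h)

/-- A normal set of such elements is centralised by everything. -/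
theorem commute_of_pair {x : ↥Y} (hcE : ∀ e ∈ D.E', e * x = x * e) (h3 : x ^ 3 = 1)
    (hconj : ∀ y : ↥Y, y * x * y⁻¹ = x ∨ y * x * y⁻¹ = x * x) (y : ↥Y) : Commute y x := by
  haveI := D.finite_Y
  have key : ∀ g : ↥Y, g * g ∈ centralizer ({x} : Set ↥Y) := fun g => by
    refine mem_centralizer_singleton_iff.2 (mul_inv_eq_iff_eq_mul.1 ?_)
    rw [show g * g * x * (g * g)⁻¹ = g * (g * x * g⁻¹) * g⁻¹ by group]
    rcases hconj g with h | h
    · rw [h, h]
    · rw [h, show g * (x * x) * g⁻¹ = g * x * g⁻¹ * (g * x * g⁻¹) by group, h,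
        show x * x * (x * x) = x ^ 3 * x by rw [pow_succ, pow_two]; group, h3, one_mul]
  have htop := eq_top_of_squares _ key (D.card_E' ▸ card_dvd_of_le (show D.E' ≤ centralizer ({x} : Set ↥Y) from
    fun e he => mem_centralizer_singleton_iff.2 (hcE e he))) D.not_dvd
  exact mem_centralizer_singleton_iff.1 (htop ▸ mem_top y)

theorem omega_of_oddCore (hO : Cfsg.oddCore ↥Y ≠ ⊥) :
    ∃ M : AddMonoid.End W, Quad M ∧ ∀ y ∈ Y, Commute M (y : AddMonoid.End W) := by
  haveI := D.finite_Y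
  set R := (Cfsg.oddCore ↥Y).map Y.subtype with hR
  have hodd : Odd (Nat.card R) := by
    rw [hR, ← Nat.card_congr (equivMapOfInjective _ _ Y.subtype_injective).toEquiv]
    exact Nat.coprime_two_right.1 CfsgLib.PCore.pPrimeCore_coprime
  have hnorm : ∀ y ∈ Y, ∀ r ∈ R, y * r * y⁻¹ ∈ R := by
    rintro y hy _ ⟨r, hr, rfl⟩
    exact ⟨⟨y, hy⟩ * r * ⟨y, hy⟩⁻¹, (Cfsg.pPrimeCore_normal 2 ↥Y).conj_mem r hr _, rfl⟩
  obtain ⟨⟨x, hx⟩, hne⟩ := Subgroup.ne_bot_iff_exists_ne_one.1 hO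
  have prop : ∀ r ∈ Cfsg.oddCore ↥Y, r ≠ 1 → r ^ 3 = 1 ∧
      Quad ((r : (AddMonoid.End W)ˣ) : AddMonoid.End W) ∧ ∀ e ∈ D.E', e * r = r * e := fun r hr hr1 => by
    obtain ⟨h3, hq, hc⟩ := (D.odd_normal (map_subtype_le _) hnorm hodd (mem_map_of_mem Y.subtype hr)).resolve_left
      (fun h => hr1 (Subtype.ext h))
    exact ⟨Subtype.ext h3, hq, fun e he => Subtype.ext (Units.ext (hc e (mem_subgroupOf.1 he)).eq.symm)⟩
  have hx1 : x ≠ 1 := fun h => hne (Subtype.ext h)
  obtain ⟨h3, hq, hc⟩ := prop x hx hx1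
  refine ⟨((x : (AddMonoid.End W)ˣ) : AddMonoid.End W), hq, fun y hy => ?_⟩
  have hconj : ∀ g : ↥Y, g * x * g⁻¹ = x ∨ g * x * g⁻¹ = x * x := fun g => by
    obtain ⟨h3', hq', hc'⟩ := prop _ ((Cfsg.pPrimeCore_normal 2 ↥Y).conj_mem x hx g)
      (fun h => hx1 (conj_eq_one_iff.1 h))
    exact D.pair_cases hc hc' h3 h3' hq hq'
  exact (congrArg (fun z : ↥Y => ((z : (AddMonoid.End W)ˣ) : AddMonoid.End W))
    (D.commute_of_pair hc h3 hconj ⟨y, hy⟩).eq).symm

/-- An odd-order element of `Y` acts on `Z` as a scalar. -/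
theorem commute_on_Z {a b : AddMonoid.End W} (ha : Quad a) (haZ : ∀ z ∈ D.Z, a z ∈ D.Z)
    (hbZ : ∀ z ∈ D.Z, b z ∈ D.Z) (hb3 : ∀ z ∈ D.Z, b (b (b z)) = z) {z : W} (hz : z ∈ D.Z) :
    a (b z) = b (a z) := by
  have hbinj : ∀ v ∈ D.Z, ∀ w ∈ D.Z, b v = b w → v = w := fun v hv w hw h => by
    rw [← hb3 v hv, ← hb3 w hw, h]
  rcases eq_or_ne z 0 with rfl | hz0
  · simp
  have haz0 : a z ≠ 0 := fun h => hz0 (by have := ha z; rwa [h, map_zero, add_zero, zero_add] at this)
  have hzaz : z ≠ a z := fun h => hz0 (by have := ha z; rwa [← h, ← h, D.char_two, zero_add] at this)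
  have haa : a (a z) = z + a z := D.eq_of_add (by rw [add_comm z, ← add_assoc, ha z])
  have hb0 : ∀ v ∈ D.Z, b v = 0 → v = 0 := fun v hv h => by rw [← hb3 v hv, h, map_zero, map_zero]
  rcases D.Z_cases hz (haZ z hz) hz0 haz0 hzaz (hbZ z hz) with h | h | h | h <;>
    rcases D.Z_cases hz (haZ z hz) hz0 haz0 hzaz (hbZ _ (haZ z hz)) with k | k | k | k
  all_goals first
    | exact absurd (hb0 z hz h) hz0
    | exact absurd (hb0 _ (haZ z hz) k) haz0
    | exact absurd (hbinj z hz _ (haZ z hz) (h.trans k.symm)) hzaz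
    | (rw [h, k]; done)
    | (rw [h, k, haa]; done)
    | (rw [h, k, map_add, haa, add_comm (a z), add_assoc, D.char_two, add_zero]; done)
    | (exfalso; have h3 := hb3 z hz; rw [h, map_add, h, k, add_assoc, D.char_two, add_zero, h] at h3;
        exact haz0 (add_eq_left.1 h3))
    | (exfalso; have h3 := hb3 z hz; simp [h, k, map_add, D.add_cancel, D.char_two, hz0, haz0, hzaz,
        hzaz.symm] at h3; done)
    | (exfalso; have h3 := hb3 _ (haZ z hz); simp [h, k, map_add, D.add_cancel, D.char_two, hz0, haz0,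
        hzaz, hzaz.symm] at h3; done)

theorem centralizer_eq (hO : Cfsg.oddCore ↥Y = ⊥) [hn : D.E'.Normal] {u : ↥Y}
    (hu : ∀ e ∈ D.E', e * u = u * e) : u ∈ D.E' := by
  haveI := D.finite_Y
  refine D.mem_E'_of_sq hu ?_
  obtain ⟨n, hn', hn1⟩ := D.sq_odd u
  set x := u * u with hx_def
  by_contra hx1
  obtain ⟨e, he, he1⟩ := D.exists_E
  have hcE : ∀ e ∈ D.E', e * x = x * e := fun e he => (Commute.mul_right (hu e he) (hu e he)).eq
  have prop : ∀ g : ↥Y, (g * x * g⁻¹) ^ 3 = 1 ∧ (∀ e ∈ D.E', e * (g * x * g⁻¹) = g * x * g⁻¹ * e) ∧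
      Quad (((g * x * g⁻¹ : ↥Y) : (AddMonoid.End W)ˣ) : AddMonoid.End W) := by
    intro g
    have hc : ∀ e ∈ D.E', e * (g * x * g⁻¹) = g * x * g⁻¹ * e := fun e he => by
      have h1 := hcE _ (hn.conj_mem e he g⁻¹)
      rw [inv_inv] at h1
      calc e * (g * x * g⁻¹) = g * (g⁻¹ * e * g * x) * g⁻¹ := by group
        _ = g * (x * (g⁻¹ * e * g)) * g⁻¹ := by rw [h1]
        _ = _ := by group
    have hne : ((g * x * g⁻¹ : ↥Y) : (AddMonoid.End W)ˣ) ≠ 1 :=
      fun h => hx1 (conj_eq_one_iff.1 (Subtype.ext h))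
    obtain ⟨h3, hq, -⟩ := (D.odd_cases hn' (congrArg Subtype.val (show (g * x * g⁻¹) ^ n = 1 by
        rw [← MulAut.conj_apply, ← map_pow, hn1, map_one])) he he1
      (congrArg Subtype.val (hc ⟨e, D.E_le he⟩ (mem_subgroupOf.2 he))).symm).resolve_left hne
    exact ⟨Subtype.ext h3, hc, hq⟩
  obtain ⟨h3, -, hq⟩ := by simpa using prop 1
  have hN : (zpowers x).Normal := ⟨fun m hm g => by
    obtain ⟨i, rfl⟩ := mem_zpowers_iff.1 hm
    rw [← MulAut.conj_apply, map_zpow, MulAut.conj_apply]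
    refine zpow_mem ?_ i
    obtain ⟨h3', hc', hq'⟩ := prop g
    rcases D.pair_cases hcE hc' h3 h3' hq hq' with h | h <;> rw [h]
    · exact mem_zpowers x
    · exact mul_mem (mem_zpowers x) (mem_zpowers x)⟩
  have hcop : (Nat.card (zpowers x)).Coprime 2 := by
    rw [Nat.card_zpowers]
    exact Nat.Coprime.coprime_dvd_left (orderOf_dvd_of_pow_eq_one h3) (by norm_num)
  have := CfsgLib.PCore.le_pPrimeCore hN hcop (mem_zpowers x)
  rw [show Cfsg.pPrimeCore 2 ↥Y = ⊥ from hO, mem_bot] at this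
  exact hx1 this

theorem card_dvd_of_normal (hO : Cfsg.oddCore ↥Y = ⊥) [hn : D.E'.Normal] : Nat.card ↥Y ∣ 4 * 6 := by
  haveI := D.finite_Y
  classical
  let ψ : ↥Y →* MulAut D.E' := MulAut.conjNormal
  let f : MulAut D.E' → Equiv.Perm {a : D.E' // a ≠ 1} := fun φ =>
    Equiv.Perm.subtypePerm φ.toEquiv fun a => not_congr (by simp)
  have hker : Nat.card ψ.ker ∣ 4 := D.card_E' ▸ card_dvd_of_le fun u hu => by
    refine D.centralizer_eq hO fun e he => ?_
    have := congrArg Subtype.val (DFunLike.congr_fun (MonoidHom.mem_ker.1 hu) ⟨e, he⟩)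
    rw [MulAut.conjNormal_apply, MulAut.one_apply] at this
    exact (mul_inv_eq_iff_eq_mul.1 this).symm
  have hrange : Nat.card ψ.range ∣ 6 := by
    refine (card_subgroup_dvd_card ψ.range).trans ?_
    let F : MulAut D.E' →* Equiv.Perm {a : D.E' // a ≠ 1} := MonoidHom.mk' f fun φ φ' => Equiv.ext fun a => Subtype.ext rfl
    have hF : Function.Injective F := fun φ φ' h => MulEquiv.ext fun a => by
      rcases eq_or_ne a 1 with rfl | ha
      · rw [map_one, map_one]
      · exact congrArg Subtype.val (Equiv.congr_fun h ⟨a, ha⟩)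
    refine (card_dvd_of_injective F hF).trans (dvd_of_eq ?_)
    haveI := Fintype.ofFinite D.E'
    rw [Nat.card_perm, Nat.card_eq_fintype_card, Fintype.card_subtype_compl, Fintype.card_subtype_eq,
      ← Nat.card_eq_fintype_card, D.card_E']
    rfl
  rw [← ψ.ker.card_mul_index, Subgroup.index_ker]
  exact Nat.mul_dvd_mul hker hrange

theorem omega_of_normal (hO : Cfsg.oddCore ↥Y = ⊥) [hn : D.E'.Normal] :
    ∃ M : AddMonoid.End W, Quad M ∧ ∀ y ∈ Y, Commute M (y : AddMonoid.End W) := by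
  haveI := D.finite_Y
  suffices h : ∃ M : AddMonoid.End W, Quad M ∧ commutant Y M = ⊤ by
    obtain ⟨M, hq, hM⟩ := h
    exact ⟨M, hq, fun y hy => (hM ▸ mem_top (⟨y, hy⟩ : ↥Y) :)⟩
  have h12 : Nat.card ↥Y ∣ 12 := by
    have h24 := D.card_dvd_of_normal hO
    have hmem : Nat.card ↥Y ∈ Nat.divisors 24 := Nat.mem_divisors.2 ⟨h24, by norm_num⟩
    have h8 := D.not_dvd
    rw [show Nat.divisors 24 = {1, 2, 3, 4, 6, 8, 12, 24} from by decide] at hmem
    simp only [Finset.mem_insert, Finset.mem_singleton] at hmem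
    rcases hmem with h | h | h | h | h | h | h | h <;> rw [h] at h8 ⊢
    all_goals omega
  have hEcomm : ∀ M : AddMonoid.End W, (∀ e ∈ D.E, Commute M (e : AddMonoid.End W)) → D.E' ≤ commutant Y M :=
    fun M h e he => h _ (mem_subgroupOf.1 he)
  have h4 : 4 ∣ Nat.card ↥Y := D.card_E' ▸ card_subgroup_dvd_card D.E'
  by_cases h3 : 3 ∣ Nat.card ↥Y
  swap
  · refine ⟨D.ω₀, D.ω₀_quad, eq_top_of_le_card _ ((le_of_eq ?_).trans (card_le_of_le (hEcomm _ D.ω₀_comm)))⟩
    have hmem : Nat.card ↥Y ∈ Nat.divisors 12 := Nat.mem_divisors.2 ⟨h12, by norm_num⟩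
    rw [show Nat.divisors 12 = {1, 2, 3, 4, 6, 12} from by decide] at hmem
    simp only [Finset.mem_insert, Finset.mem_singleton] at hmem
    rw [D.card_E']
    rcases hmem with h | h | h | h | h | h <;> rw [h] at h3 h4 ⊢
    all_goals omega
  haveI : Fact (Nat.Prime 3) := ⟨by norm_num⟩
  obtain ⟨y, hy⟩ := exists_prime_orderOf_dvd_card' 3 h3
  have hy3 : y * y * y = 1 := by
    have := pow_orderOf_eq_one y
    rwa [hy, pow_succ, pow_two] at this
  set b : AddMonoid.End W := ((y : (AddMonoid.End W)ˣ) : AddMonoid.End W) with hb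
  have hb3 : ∀ v, b (b (b v)) = v := fun v => DFunLike.congr_fun
    (congrArg (fun z : ↥Y => ((z : (AddMonoid.End W)ˣ) : AddMonoid.End W)) hy3) v
  have hbZ : ∀ z ∈ D.Z, b z ∈ D.Z := fun z hz => by
    obtain ⟨e, he, he1⟩ := D.exists_E
    refine (D.fix e he he1 _).1 ?_
    have hc : y⁻¹ * ⟨e, D.E_le he⟩ * y ∈ D.E' := by
      have := hn.conj_mem _ (mem_subgroupOf.2 he : (⟨e, D.E_le he⟩ : ↥Y) ∈ D.E') y⁻¹
      rwa [inv_inv] at this
    have h := congrArg b (D.fixZ (mem_subgroupOf.1 hc) hz)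
    have e1 : y * (y⁻¹ * ⟨e, D.E_le he⟩ * y) = (⟨e, D.E_le he⟩ : ↥Y) * y := by group
    exact (DFunLike.congr_fun (congrArg (fun z : ↥Y => ((z : (AddMonoid.End W)ˣ) : AddMonoid.End W)) e1)
      z).symm.trans h
  obtain ⟨e₀, he₀, he₀1⟩ := D.exists_E
  have hωZ : ∀ z ∈ D.Z, D.ω₀ z ∈ D.Z := fun z hz => D.mem_Z_of_commute he₀ he₀1 (D.ω₀_comm e₀ he₀) hz
  have hωb : ∀ z ∈ D.Z, D.ω₀ (b z) = b (D.ω₀ z) :=
    fun z hz => D.commute_on_Z D.ω₀_quad hωZ hbZ (fun z _ => hb3 z) hz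
  set ω₁ : AddMonoid.End W := b * D.ω₀ * (b * b) with hω₁
  set ω₂ : AddMonoid.End W := b * b * D.ω₀ * b with hω₂
  have hZ₁ : ∀ z ∈ D.Z, ω₁ z = D.ω₀ z := fun z hz => by
    show b (D.ω₀ (b (b z))) = D.ω₀ z
    rw [hωb _ (hbZ z hz), hωb z hz, hb3]
  have hZ₂ : ∀ z ∈ D.Z, ω₂ z = D.ω₀ z := fun z hz => by
    show b (b (D.ω₀ (b z))) = D.ω₀ z
    rw [hωb z hz, hb3]
  -- conjugates commute with `E`
  have hconj : ∀ (g : ↥Y) (N : AddMonoid.End W), (∀ e ∈ D.E, Commute N (e : AddMonoid.End W)) → ∀ e ∈ D.E,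
      Commute (((g : (AddMonoid.End W)ˣ) : AddMonoid.End W) * N *
        ((((g⁻¹ : ↥Y) : (AddMonoid.End W)ˣ)) : AddMonoid.End W)) (e : AddMonoid.End W) := by
    intro g N hN e he
    have hc : g⁻¹ * ⟨e, D.E_le he⟩ * g ∈ D.E' := by
      have := hn.conj_mem _ (mem_subgroupOf.2 he : (⟨e, D.E_le he⟩ : ↥Y) ∈ D.E') g⁻¹
      rwa [inv_inv] at this
    have h : Commute N _ := hN _ (mem_subgroupOf.1 hc)
    rw [Subgroup.coe_mul, Subgroup.coe_mul, Units.val_mul, Units.val_mul] at h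
    set p := ((g : (AddMonoid.End W)ˣ) : AddMonoid.End W)
    set q := (((g⁻¹ : ↥Y) : (AddMonoid.End W)ˣ) : AddMonoid.End W)
    set ε := ((e : (AddMonoid.End W)ˣ) : AddMonoid.End W)
    have hpq : p * q = 1 := congrArg (fun z : ↥Y => ((z : (AddMonoid.End W)ˣ) : AddMonoid.End W)) (mul_inv_cancel g)
    have h' : N * (q * ε * p) = q * ε * p * N := h.eq
    show p * N * q * ε = ε * (p * N * q)
    calc p * N * q * ε = p * (N * (q * ε * p)) * q := by
          rw [mul_assoc q ε p]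
          simp only [mul_assoc]
          rw [hpq, mul_one]
      _ = p * (q * ε * p * N) * q := by rw [h']
      _ = p * q * (ε * (p * N * q)) := by simp only [mul_assoc]
      _ = ε * (p * N * q) := by rw [hpq, one_mul]
  have hinv : (((y⁻¹ : ↥Y) : (AddMonoid.End W)ˣ) : AddMonoid.End W) = b * b := by
    have : y⁻¹ = y * y := inv_eq_of_mul_eq_one_right (by rw [← mul_assoc, hy3])
    rw [this]
    rfl
  have hc₁ : ∀ e ∈ D.E, Commute ω₁ (e : AddMonoid.End W) := fun e he => by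
    have := hconj y D.ω₀ D.ω₀_comm e he
    rwa [hinv] at this
  have hc₂ : ∀ e ∈ D.E, Commute ω₂ (e : AddMonoid.End W) := fun e he => by
    have := hconj y⁻¹ D.ω₀ D.ω₀_comm e he
    rwa [hinv, inv_inv] at this
  have hq₁ : Quad ω₁ := fun v => by
    show b (D.ω₀ (b (b (b (D.ω₀ (b (b v))))))) + b (D.ω₀ (b (b v))) + v = 0
    rw [hb3]
    have h := congrArg b (D.ω₀_quad (b (b v)))
    rwa [map_add, map_add, map_zero, hb3] at h
  have hq₂ : Quad ω₂ := fun v => by
    show b (b (D.ω₀ (b (b (b (D.ω₀ (b v))))))) + b (b (D.ω₀ (b v))) + v = 0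
    rw [hb3]
    have h := congrArg b (congrArg b (D.ω₀_quad (b v)))
    rwa [map_add, map_add, map_add, map_add, map_zero, map_zero, hb3] at h
  set d₁ := D.ω₀ + ω₁ with hd₁
  set d₂ := D.ω₀ + ω₂ with hd₂
  set M : AddMonoid.End W := D.ω₀ + ω₁ + ω₂ with hM
  have hadd : ∀ (p q : AddMonoid.End W) (v : W), (p + q) v = p v + q v := fun _ _ _ => rfl
  have hdZ : ∀ (w : AddMonoid.End W), (∀ z ∈ D.Z, w z = D.ω₀ z) → (∀ e ∈ D.E, Commute w (e : AddMonoid.End W)) →
      ∀ v, (D.ω₀ + w) v ∈ D.Z := by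
    intro w hw hwc v
    refine (D.fix e₀ he₀ he₀1 _).1 (D.eq_of_add ?_)
    have hcd : Commute (D.ω₀ + w) (e₀ : AddMonoid.End W) := (D.ω₀_comm e₀ he₀).add_left (hwc e₀ he₀)
    have he : (e₀ : AddMonoid.End W) ((D.ω₀ + w) v) = (D.ω₀ + w) ((e₀ : AddMonoid.End W) v) :=
      (DFunLike.congr_fun hcd.eq v).symm
    rw [he, ← map_add, hadd, hw _ (D.comm e₀ he₀ v), D.char_two]
  have hlin : ∀ (w : AddMonoid.End W), Quad w → (∀ z ∈ D.Z, w z = D.ω₀ z) →
      (∀ v, (D.ω₀ + w) v ∈ D.Z) → ∀ v, D.ω₀ ((D.ω₀ + w) v) + (D.ω₀ + w) (D.ω₀ v) + (D.ω₀ + w) v = 0 := by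
    intro w hw hwz hwd v
    have h0 : w ((D.ω₀ + w) v) = D.ω₀ ((D.ω₀ + w) v) := hwz _ (hwd v)
    have h1 := D.ω₀_quad v
    have h2 := hw v
    simp only [hadd, map_add] at h0 ⊢
    have e1 : D.ω₀ (D.ω₀ v) + D.ω₀ v = v := D.eq_of_add h1
    have e2 : w (w v) + w v = v := D.eq_of_add h2
    rw [← h0]
    calc w (D.ω₀ v) + w (w v) + (D.ω₀ (D.ω₀ v) + w (D.ω₀ v)) + (D.ω₀ v + w v)
        = w (D.ω₀ v) + w (D.ω₀ v) + ((D.ω₀ (D.ω₀ v) + D.ω₀ v) + (w (w v) + w v)) := by abel
      _ = 0 := by simp only [e1, e2, D.char_two, add_zero]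
  have hMv : ∀ v, M v = D.ω₀ v + ((D.ω₀ + ω₁) v + (D.ω₀ + ω₂) v) := fun v => by
    simp only [hM, hadd]
    rw [add_add_add_comm, D.char_two, zero_add, add_assoc]
  refine ⟨M, fun v => ?_, ?_⟩
  · have hl₁ := hlin ω₁ hq₁ hZ₁ (hdZ ω₁ hZ₁ hc₁) v
    have hl₂ := hlin ω₂ hq₂ hZ₂ (hdZ ω₂ hZ₂ hc₂) v
    have hz1 : ∀ z ∈ D.Z, (D.ω₀ + ω₁) z + (D.ω₀ + ω₂) z = 0 := fun z hz => by
      rw [hadd, hadd, hZ₁ z hz, hZ₂ z hz]
      simp only [D.char_two, add_zero]
    set d : AddMonoid.End W := (D.ω₀ + ω₁) + (D.ω₀ + ω₂) with hd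
    have hMd : ∀ u, M u = D.ω₀ u + d u := hMv
    have hdd : d (d v) = 0 := hz1 _ (add_mem (hdZ ω₁ hZ₁ hc₁ v) (hdZ ω₂ hZ₂ hc₂ v))
    rw [hMd (M v), hMd v, map_add, map_add, hdd, add_zero]
    have h0 := D.ω₀_quad v
    calc _ = (D.ω₀ (D.ω₀ v) + D.ω₀ v + v) + (D.ω₀ (d v) + d (D.ω₀ v) + d v) := by abel
      _ = (D.ω₀ (D.ω₀ v) + D.ω₀ v + v) +
          ((D.ω₀ ((D.ω₀ + ω₁) v) + (D.ω₀ + ω₁) (D.ω₀ v) + (D.ω₀ + ω₁) v) +
          (D.ω₀ ((D.ω₀ + ω₂) v) + (D.ω₀ + ω₂) (D.ω₀ v) + (D.ω₀ + ω₂) v)) := by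
        congr 1
        show D.ω₀ ((D.ω₀ + ω₁) v + (D.ω₀ + ω₂) v) + ((D.ω₀ + ω₁) (D.ω₀ v) + (D.ω₀ + ω₂) (D.ω₀ v)) +
          ((D.ω₀ + ω₁) v + (D.ω₀ + ω₂) v) = _
        rw [map_add]
        abel
      _ = 0 := by rw [h0, hl₁, hl₂, add_zero, add_zero]
  · have hbb : b * b * b = 1 := DFunLike.ext _ _ hb3
    have hbb' : b * (b * b) = 1 := by rw [← mul_assoc, hbb]
    have hMy : y ∈ commutant Y M := by
      show M * b = b * M
      have hr : ∀ t, b * (b * (b * t)) = t := fun t => by rw [← mul_assoc, ← mul_assoc, hbb, one_mul]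
      simp only [hM, hω₁, hω₂, add_mul, mul_add, mul_assoc, hbb', mul_one, hr]
      abel
    have hME : D.E' ≤ commutant Y M := hEcomm M fun e he =>
      ((D.ω₀_comm e he).add_left (hc₁ e he)).add_left (hc₂ e he)
    refine eq_top_of_le_card _ (Nat.le_of_dvd Nat.card_pos (h12.trans ?_))
    rw [show 12 = 4 * 3 by norm_num]
    refine Nat.Coprime.mul_dvd_of_dvd_of_dvd (by norm_num) (D.card_E' ▸ card_dvd_of_le hME) ?_
    rw [← hy]
    exact (Subgroup.orderOf_coe (⟨y, hMy⟩ : commutant Y M)) ▸ orderOf_dvd_natCard _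

theorem nonempty_A5 (hO : Cfsg.oddCore ↥Y = ⊥) (hn : ¬ D.E'.Normal) :
    Nonempty (↥Y ≃* alternatingGroup (Fin 5)) := by
  haveI := D.finite_Y
  haveI : Fact (Nat.Prime 2) := ⟨Nat.prime_two⟩
  haveI : Fact (Nat.Prime 3) := ⟨by norm_num⟩
  have h2 : Cfsg.pCore 2 ↥Y = ⊥ := by
    set Q := Cfsg.pCore 2 ↥Y
    have hQn : Q.Normal := Cfsg.pCore_normal 2 ↥Y
    have hQE : Q ≤ D.E' := CfsgLib.PCore.pCore_le_sylow D.syl
    by_contra hne
    obtain ⟨⟨q, hq⟩, hq1⟩ := ne_bot_iff_exists_ne_one.1 hne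
    have hQc : Nat.card Q ≠ 4 := fun h => hn (by
      have : Q = D.E' := eq_of_le_of_card_ge hQE (by rw [h, D.card_E'])
      exact this ▸ hQn)
    have hQ2 : Nat.card Q ≤ 2 := by
      have hd : Nat.card Q ∣ 4 := D.card_E' ▸ card_dvd_of_le hQE
      have := Nat.le_of_dvd (by norm_num) hd
      interval_cases h : Nat.card Q <;> simp_all
    have hcent : ∀ g, Commute g q := fun g => by
      have hg := hQn.conj_mem q hq g
      by_contra hne'
      have h3 : 3 ≤ Nat.card Q := by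
        haveI := Fintype.ofFinite Q
        rw [Nat.card_eq_fintype_card]
        exact Fintype.two_lt_card_iff.2 ⟨1, ⟨q, hq⟩, ⟨_, hg⟩, fun e => hq1 e.symm,
          fun e => hq1 (Subtype.ext (conj_eq_one_iff.1 (congrArg Subtype.val e).symm)),
          fun e => hne' (mul_inv_eq_iff_eq_mul.1 (congrArg Subtype.val e).symm)⟩
      omega
    have hsq : ∀ g : ↥Y, g * g ∈ centralizer (D.E' : Set ↥Y) := fun g => by
      obtain ⟨n, hn', hn1⟩ := D.sq_odd g
      refine mem_centralizer_iff.2 fun e he => ?_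
      have hqE : (q : (AddMonoid.End W)ˣ) ∈ D.E := mem_subgroupOf.1 (hQE hq)
      rcases D.odd_cases hn' (congrArg Subtype.val hn1) hqE
        (fun h => hq1 (Subtype.ext (Subtype.ext h))) (congrArg Subtype.val (hcent (g * g)).eq) with h | ⟨-, -, h⟩
      · rw [show g * g = 1 from Subtype.ext h, mul_one, one_mul]
      · exact Subtype.ext (Units.ext (h _ (mem_subgroupOf.1 he)).eq.symm)
    have hE : D.E' ≤ centralizer (D.E' : Set ↥Y) := fun e he => mem_centralizer_iff.2 fun e' he' => by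
      have ha := inv_eq_of_mul_eq_one_right (D.sq_E' he)
      have hb := inv_eq_of_mul_eq_one_right (D.sq_E' he')
      have hab := inv_eq_of_mul_eq_one_right (D.sq_E' (mul_mem he he'))
      rw [mul_inv_rev, ha, hb] at hab
      exact hab
    have htop := eq_top_of_squares _ hsq (D.card_E' ▸ card_dvd_of_le hE) D.not_dvd
    exact hn ⟨fun e he g => by
      have := mem_centralizer_iff.1 (htop ▸ mem_top g : g ∈ centralizer (D.E' : Set ↥Y)) e he
      rwa [← this, mul_inv_cancel_right]⟩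
  have hns : ¬ Group.IsSolvable ↥Y := fun hs => by
    have := CfsgLib.InvChar.centralizer_pCore_le (p := 2) (G := ↥Y) hO
    rw [h2] at this
    obtain ⟨e, he, he1⟩ := D.exists_E
    have h := this (show (⟨e, D.E_le he⟩ : ↥Y) ∈ centralizer ((⊥ : Subgroup ↥Y) : Set ↥Y) from
      mem_centralizer_iff.2 fun x hx => by rw [mem_bot.1 hx, one_mul, mul_one])
    exact he1 (congrArg Subtype.val (mem_bot.1 h))
  let c : ↥Y →* MulAut (Multiplicative W) := MonoidHom.mk' (fun y =>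
    { toFun := fun v => Multiplicative.ofAdd (((y : (AddMonoid.End W)ˣ) : AddMonoid.End W) v.toAdd)
      invFun := fun v => Multiplicative.ofAdd
        ((((y : (AddMonoid.End W)ˣ)⁻¹ : (AddMonoid.End W)ˣ) : AddMonoid.End W) v.toAdd)
      left_inv := fun v => congrArg Multiplicative.ofAdd
        (DFunLike.congr_fun (y : (AddMonoid.End W)ˣ).inv_mul v.toAdd)
      right_inv := fun v => congrArg Multiplicative.ofAdd
        (DFunLike.congr_fun (y : (AddMonoid.End W)ˣ).mul_inv v.toAdd)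
      map_mul' := fun a b => congrArg Multiplicative.ofAdd (map_add _ _ _) })
    fun _ _ => MulEquiv.ext fun _ => rfl
  have hc : Function.Injective c := fun y y' h => Subtype.ext (Units.ext (DFunLike.ext _ _ fun (v : W) =>
    congrArg Multiplicative.toAdd (DFunLike.congr_fun h (Multiplicative.ofAdd v))))
  haveI := D.finite_W
  obtain ⟨f, hf⟩ := CfsgLib.InvCharRankFour.exists_embedding_GL_four (V := Multiplicative W)
    (fun v => by rw [pow_two]; exact congrArg Multiplicative.ofAdd (D.char_two v.toAdd))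
    (by rw [Nat.card_congr Multiplicative.toAdd, D.card_W]; norm_num)
  let φ : ↥Y →* Equiv.Perm (Fin 8) := CfsgLib.KnownSimple.GLFourTwo.toSymEight.comp (f.comp c)
  have hφ : Function.Injective φ :=
    (CfsgLib.KnownSimple.GLFourTwo.symEightEquiv.symm.injective.comp
      CfsgLib.KnownSimple.GLFourTwo.extHom_injective).comp (hf.comp hc)
  let e : ↥Y ≃* φ.range := MonoidHom.ofInjective hφ
  have hcard : Nat.card φ.range = Nat.card ↥Y := (Nat.card_congr e.toEquiv).symm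
  rcases CfsgLib.InvCharRankFour.subgroup_cases (H := φ.range)
      (by rw [← CfsgLib.KnownSimple.GLFourTwo.toSymEight_range]; exact fun x ⟨a, ha⟩ => ⟨_, ha⟩)
      (fun hs => hns (Group.isSolvable_of_isSolvable_injective e.injective))
      (CfsgLib.PCore.pCore_eq_bot_of_equiv e h2) with hl | ⟨h3, -⟩
  · have h8 : ¬ 8 ∣ Nat.card φ.range := by rw [hcard]; exact D.not_dvd
    rcases hl with ⟨n, h5, h8', ⟨g⟩⟩ | ⟨⟨g⟩⟩ | ⟨⟨g⟩⟩ | ⟨⟨g⟩⟩
    · interval_cases n
      · exact ⟨e.trans g⟩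
      all_goals
        refine absurd ?_ h8
        rw [Nat.card_congr g.toEquiv, nat_card_alternatingGroup, Nat.card_eq_fintype_card, Fintype.card_fin]
        decide
    · refine absurd ?_ h8
      rw [Nat.card_congr g.toEquiv, Nat.card_perm, Nat.card_eq_fintype_card, Fintype.card_fin]
      decide
    · refine absurd ?_ h8
      rw [Nat.card_congr g.toEquiv, Nat.card_perm, Nat.card_eq_fintype_card, Fintype.card_fin]
      decide
    · refine absurd ?_ h8
      rw [Nat.card_congr g.toEquiv, Matrix.card_GL_field, ZMod.card]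
      decide
  · exfalso
    have hp : Cfsg.pCore 3 φ.range ≤ Cfsg.pPrimeCore 2 φ.range :=
      CfsgLib.PCore.le_pPrimeCore (Cfsg.pCore_normal 3 _) (by rw [h3]; norm_num)
    rw [CfsgLib.PCore.pPrimeCore_eq_bot_of_equiv e hO, le_bot_iff] at hp
    rw [hp, Subgroup.card_bot] at h3
    omega

theorem omega_of_not_normal (hO : Cfsg.oddCore ↥Y = ⊥) (hn : ¬ D.E'.Normal) :
    ∃ M : AddMonoid.End W, Quad M ∧ ∀ y ∈ Y, Commute M (y : AddMonoid.End W) := by
  haveI := D.finite_Y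
  haveI := D.finite_W
  haveI : Fact (Nat.Prime 2) := ⟨Nat.prime_two⟩
  haveI : Fact (Nat.Prime 5) := ⟨by norm_num⟩
  obtain ⟨ψ⟩ := D.nonempty_A5 hO hn
  haveI : IsSimpleGroup ↥Y :=
    haveI := alternatingGroup.isSimpleGroup_five
    ψ.isSimpleGroup
  have h60 : Nat.card ↥Y = 60 := by
    rw [Nat.card_congr ψ.toEquiv, nat_card_alternatingGroup, Nat.card_eq_fintype_card, Fintype.card_fin]
    decide
  obtain ⟨y0, t0, hy5, hy1, ht2, ht1, hty⟩ := exists_inverted
  set t : ↥Y := ψ.symm t0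
  have ht : IsPGroup 2 (zpowers t) := by
    refine IsPGroup.of_card (n := 1) ?_
    rw [Nat.card_zpowers, pow_one]
    exact (ψ.symm.orderOf_eq t0).trans (orderOf_eq_prime (by rw [pow_two, ht2]) ht1)
  obtain ⟨P, hP⟩ := ht.exists_le_sylow
  obtain ⟨g, hg⟩ := MulAction.exists_smul_eq ↥Y D.syl P
  have het := hP (mem_zpowers t)
  rw [← hg, Sylow.coe_subgroup_smul, mem_pointwise_smul_iff_inv_smul_mem, ← map_inv, MulAut.smul_def] at het
  set ε := MulAut.conj g⁻¹ t
  set y := MulAut.conj g⁻¹ (ψ.symm y0)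
  have hy5' : y ^ 5 = 1 := by rw [← map_pow, ← map_pow, hy5, map_one, map_one]
  have hy1' : y ≠ 1 := fun h => hy1 (ψ.symm.injective (((MulAut.conj g⁻¹).injective (h.trans (map_one _).symm)).trans (map_one ψ.symm).symm))
  have hε1 : ε ≠ 1 := fun h => ht1 (ψ.symm.injective (((MulAut.conj g⁻¹).injective (h.trans (map_one _).symm)).trans (map_one ψ.symm).symm))
  have hεy : ε * y = y⁻¹ * ε := by
    rw [← map_mul, ← map_inv, ← map_mul, ← map_mul, ← map_inv, ← map_mul, hty]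
  set b : AddMonoid.End W := ((y : (AddMonoid.End W)ˣ) : AddMonoid.End W) with hb
  set b' : AddMonoid.End W := (((y⁻¹ : ↥Y) : (AddMonoid.End W)ˣ) : AddMonoid.End W) with hb'
  have hbb' : ∀ v, b (b' v) = v := fun v => DFunLike.congr_fun
    (congrArg (fun z : ↥Y => ((z : (AddMonoid.End W)ˣ) : AddMonoid.End W)) (mul_inv_cancel y)) v
  have hb'b : ∀ v, b' (b v) = v := fun v => DFunLike.congr_fun
    (congrArg (fun z : ↥Y => ((z : (AddMonoid.End W)ˣ) : AddMonoid.End W)) (inv_mul_cancel y)) v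
  have hb5 : ∀ v, b (b (b (b (b v)))) = v := fun v => by
    have h : y * (y * (y * (y * y))) = 1 := by
      rw [← hy5']; simp only [pow_succ, pow_zero, one_mul, mul_assoc]
    exact DFunLike.congr_fun (congrArg (fun z : ↥Y => ((z : (AddMonoid.End W)ˣ) : AddMonoid.End W)) h) v
  -- `y` fixes nothing
  have hfix : ∀ v, b v = v → v = 0 := by
    let F : AddSubgroup W :=
      { carrier := {v | b v = v}
        zero_mem' := map_zero b
        add_mem' := fun {v w} (hv : b v = v) (hw : b w = w) => show b (v + w) = v + w by rw [map_add, hv, hw]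
        neg_mem' := fun {v} (hv : b v = v) => show b (-v) = -v by rw [map_neg, hv] }
    have hp : IsPGroup 5 (zpowers y) := IsPGroup.of_card (n := 1) (by
      rw [Nat.card_zpowers, pow_one]; exact orderOf_eq_prime hy5' hy1')
    letI : MulAction (zpowers y) W :=
      { smul := fun g v => (((g : ↥Y) : (AddMonoid.End W)ˣ) : AddMonoid.End W) v
        one_smul := fun v => rfl
        mul_smul := fun g h v => rfl }
    have hmod := hp.card_modEq_card_fixedPoints W
    have hFeq : Nat.card (MulAction.fixedPoints (zpowers y) W) = Nat.card F := by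
      refine Nat.card_congr (Equiv.subtypeEquivRight fun v => ⟨fun h => h ⟨y, mem_zpowers y⟩, fun h g => ?_⟩)
      obtain ⟨i, hi⟩ := mem_powers_iff_mem_zpowers.2 g.2
      show (((g : ↥Y) : (AddMonoid.End W)ˣ) : AddMonoid.End W) v = v
      rw [← hi]
      clear hi
      induction i with
      | zero => rfl
      | succ i ih =>
        simp only [pow_succ]
        exact (congrArg _ (h : b v = v)).trans ih
    rw [hFeq, D.card_W] at hmod
    have hd : Nat.card F ∣ 2 ^ 4 := by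
      have := F.card_addSubgroup_dvd_card
      rwa [D.card_W] at this
    obtain ⟨k, hk4, hk⟩ := (Nat.dvd_prime_pow Nat.prime_two).1 hd
    rw [hk] at hmod
    intro v hv
    interval_cases k
    · haveI : Subsingleton F := (Nat.card_eq_one_iff_unique.1 hk).1
      exact congrArg Subtype.val (Subsingleton.elim (⟨v, hv⟩ : F) 0)
    all_goals try (exact absurd hmod (by decide))
    have htop : F = ⊤ := AddSubgroup.eq_top_of_card_eq F (by rw [hk, D.card_W]; norm_num)
    exfalso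
    exact hy1' (Subtype.ext (Units.ext (DFunLike.ext _ _ fun w =>
      (htop ▸ AddSubgroup.mem_top w : w ∈ F))))
  set M : AddMonoid.End W := b + b' with hM
  have hq : Quad M := fun v => by
    apply hfix
    have h3 : ∀ w, b' w = b (b (b (b w))) := fun w => by
      conv_lhs => rw [← hb5 w]
      rw [hb'b]
    have hMw : ∀ w, M w = b w + b (b (b (b w))) := fun w => by rw [← h3 w]; rfl
    rw [hMw (M v), hMw v]
    simp only [map_add, hb5]
    abel_nf
    simp [show ∀ u : W, (3 : ℕ) • u = u from fun u => by rw [succ_nsmul, two_nsmul, D.char_two, zero_add],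
      show ∀ u : W, (3 : ℤ) • u = u from fun u => by
        rw [show (3 : ℤ) = 2 + 1 from rfl, add_zsmul, two_zsmul, D.char_two, zero_add, one_zsmul]]
  refine ⟨M, hq, fun x hx => ?_⟩
  have hMy : y ∈ commutant Y M := by
    show M * b = b * M
    exact DFunLike.ext _ _ fun v => by
      show b (b v) + b' (b v) = b (b v + b' v)
      rw [hb'b, map_add, hbb']
  have hMε : ε ∈ commutant Y M := by
    show M * _ = _ * M
    set c : AddMonoid.End W := ((ε : (AddMonoid.End W)ˣ) : AddMonoid.End W)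
    have h1 : c * b = b' * c :=
      congrArg (fun z : ↥Y => ((z : (AddMonoid.End W)ˣ) : AddMonoid.End W)) hεy
    have h2 : c * b' = b * c := by
      have : ε * y⁻¹ = y * ε := by
        calc ε * y⁻¹ = y * (y⁻¹ * ε) * y⁻¹ := by group
          _ = y * (ε * y) * y⁻¹ := by rw [hεy]
          _ = y * ε := by group
      exact congrArg (fun z : ↥Y => ((z : (AddMonoid.End W)ˣ) : AddMonoid.End W)) this
    rw [hM, add_mul, mul_add, h1, h2, add_comm]
  have hEle : D.E' ≤ commutant Y M := fun e he =>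
    D.commute_all (mem_subgroupOf.1 het) (fun h => hε1 (Subtype.ext h)) hMε (fun z _ => hq z)
      (mem_subgroupOf.1 he)
  have htop : commutant Y M = ⊤ := by
    refine eq_top_of_le_card_A5 h60 ?_
    rw [show 20 = 4 * 5 by norm_num]
    refine Nat.Coprime.mul_dvd_of_dvd_of_dvd (by norm_num) (D.card_E' ▸ card_dvd_of_le hEle) ?_
    rw [← orderOf_eq_prime hy5' hy1', ← Nat.card_zpowers]
    exact card_dvd_of_le (zpowers_le.2 hMy)
  exact (htop ▸ mem_top (⟨x, hx⟩ : ↥Y) : (⟨x, hx⟩ : ↥Y) ∈ commutant Y M)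

/-- **A field of four elements commutes with the group.** -/
theorem exists_omega : ∃ M : AddMonoid.End W, Quad M ∧ ∀ y ∈ Y, Commute M (y : AddMonoid.End W) := by
  by_cases hO : Cfsg.oddCore ↥Y = ⊥
  · by_cases hn : D.E'.Normal
    · exact D.omega_of_normal hO
    · exact D.omega_of_not_normal hO hn
  · exact D.omega_of_oddCore hO

end EData

end CfsgLib.LThreeFour
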