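import Cfsg.Agent.Lib.LThreeFour.Fusion
import Cfsg.Agent.Lib.LThreeFour.Omega

/-!
# The action of `N(A)` on `A`

The automorphisms induced on `A` by its normaliser have the data `EData`, so they commute with an endomorphism
`M` with `M² + M + 1 = 0`.
-/

set_option autoImplicit false
set_option linter.unusedSectionVars false
set_option linter.style.haveILetI false

namespace CfsgLib.LThreeFour

open Subgroup CfsgLib.InvCharThree CfsgLib.InvCharPSLThree
open scoped IsMulCommutative Pointwise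

variable {F : Type*} [Field F] [Fintype F] [hF : Fact (Fintype.card F = 4)]
variable {H : Type*} [Group H] [Finite H] {S : Sylow 2 H} (f : Frame F (S : Subgroup H))

local instance : Fact (Nat.Prime 2) := ⟨Nat.prime_two⟩

namespace Frame

instance instCommA : IsMulCommutative ↥f.A := ⟨⟨fun a b => Subtype.ext (f.comm_A a.2 b.2)⟩⟩

/-- The conjugation action of a single element, additively. -/
def endFun (n : ↥(normalizer (f.A : Set H))) : AddMonoid.End (Additive ↥f.A) :=
  MonoidHom.toAdditive (MonoidHom.mk' (fun a : ↥f.A =>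
    (⟨(n : H) * (a : H) * (n : H)⁻¹, (mem_normalizer_iff.1 n.2 _).1 a.2⟩ : ↥f.A))
    fun a b => Subtype.ext (by simp [mul_assoc]))

theorem endFun_coe (n : ↥(normalizer (f.A : Set H))) (a : Additive ↥f.A) :
    ((Additive.toMul (f.endFun n a) : ↥f.A) : H) = (n : H) * (Additive.toMul a : ↥f.A) * (n : H)⁻¹ := rfl

/-- The conjugation action of the normaliser, additively. -/
def endHom : ↥(normalizer (f.A : Set H)) →* AddMonoid.End (Additive ↥f.A) where
  toFun := f.endFun
  map_one' := DFunLike.ext _ _ fun a => Additive.toMul.injective (Subtype.ext ((f.endFun_coe 1 a).trans (by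
    simp)))
  map_mul' m n := DFunLike.ext _ _ fun a => Additive.toMul.injective (Subtype.ext ((f.endFun_coe _ a).trans (by
    show _ = ((Additive.toMul (f.endFun m (f.endFun n a)) : ↥f.A) : H)
    rw [f.endFun_coe, f.endFun_coe]
    simp [mul_assoc])))

/-- The induced automorphism. -/
def act : ↥(normalizer (f.A : Set H)) →* (AddMonoid.End (Additive ↥f.A))ˣ := f.endHom.toHomUnits

theorem act_apply (n : ↥(normalizer (f.A : Set H))) (a : Additive ↥f.A) :
    ((Additive.toMul ((f.act n : AddMonoid.End (Additive ↥f.A)) a) : ↥f.A) : H) =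
      (n : H) * (Additive.toMul a : ↥f.A) * (n : H)⁻¹ := rfl

theorem act_fix (n : ↥(normalizer (f.A : Set H))) (a : Additive ↥f.A) :
    (f.act n : AddMonoid.End (Additive ↥f.A)) a = a ↔
      (n : H) * (Additive.toMul a : ↥f.A) = (Additive.toMul a : ↥f.A) * (n : H) := by
  refine ⟨fun h => mul_inv_eq_iff_eq_mul.1 ((f.act_apply n a).symm.trans
    (congrArg (fun b => ((Additive.toMul b : ↥f.A) : H)) h)), fun h => ?_⟩
  exact Additive.toMul.injective (Subtype.ext ((f.act_apply n a).trans (mul_inv_eq_iff_eq_mul.2 h)))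

theorem act_eq_one (n : ↥(normalizer (f.A : Set H))) :
    f.act n = 1 ↔ ∀ a ∈ f.A, (n : H) * a = a * (n : H) := by
  refine ⟨fun h a ha => (f.act_fix n (Additive.ofMul ⟨a, ha⟩)).1 (by rw [h]; rfl), fun h => ?_⟩
  exact Units.ext (DFunLike.ext _ _ fun a => (f.act_fix n a).2 (h _ (Additive.toMul a).2))

/-- The image of `S`. -/
def imgS : Subgroup (AddMonoid.End (Additive ↥f.A))ˣ :=
  ((S : Subgroup H).subgroupOf (normalizer (f.A : Set H))).map f.act

theorem card_imgS : Nat.card f.imgS = 4 := by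
  let φ : ↥(S : Subgroup H) →* (AddMonoid.End (Additive ↥f.A))ˣ := f.act.comp (inclusion f.A_normal)
  have hr : φ.range = f.imgS := by
    rw [MonoidHom.range_comp, inclusion_range]
    rfl
  have hk : φ.ker = f.A.subgroupOf (S : Subgroup H) := by
    ext s
    rw [MonoidHom.mem_ker, mem_subgroupOf, MonoidHom.comp_apply, f.act_eq_one]
    refine ⟨fun h => ?_, fun h a ha => f.comm_A h ha⟩
    obtain ⟨a, ha, haZ⟩ : ∃ a ∈ f.A, a ∉ f.Z := SetLike.not_le_iff_exists.1 fun hle => by
      have := card_le_of_le hle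
      rw [f.card_A, f.card_Z] at this
      omega
    exact f.mem_A_of_commute ha haZ s.2 (h a ha)
  have h := φ.ker.card_mul_index
  rw [Subgroup.index_ker, hk, Nat.card_congr (subgroupOfEquivOfLe f.A_le).toEquiv, f.card_A, hr, f.card_S] at h
  omega

/-- `Z` inside `A`, additively. -/
def addZ : AddSubgroup (Additive ↥f.A) := Subgroup.toAddSubgroup (f.Z.subgroupOf f.A)

theorem mem_addZ {a : Additive ↥f.A} : a ∈ f.addZ ↔ ((Additive.toMul a : ↥f.A) : H) ∈ f.Z := Iff.rfl

theorem card_addZ : Nat.card f.addZ = 4 := by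
  rw [← f.card_Z, ← Nat.card_congr (subgroupOfEquivOfLe f.Z_le_A).toEquiv]
  exact Nat.card_congr (Equiv.subtypeEquiv Additive.toMul fun _ => Iff.rfl)

theorem not_eight_dvd : ¬ 8 ∣ Nat.card f.act.range := by
  intro h8
  have hker : 16 ∣ Nat.card f.act.ker := by
    have := card_dvd_of_le (show f.A.subgroupOf (normalizer (f.A : Set H)) ≤ f.act.ker from fun n hn =>
      MonoidHom.mem_ker.2 ((f.act_eq_one n).2 fun a ha => f.comm_A (mem_subgroupOf.1 hn) ha))
    rwa [Nat.card_congr (subgroupOfEquivOfLe le_normalizer).toEquiv, f.card_A] at this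
  have h128 : 128 ∣ Nat.card H := by
    refine (?_ : 128 ∣ Nat.card ↥(normalizer (f.A : Set H))).trans (card_subgroup_dvd_card _)
    rw [← f.act.ker.card_mul_index, Subgroup.index_ker]
    exact (show 128 = 16 * 8 by norm_num) ▸ Nat.mul_dvd_mul hker h8
  have hidx := S.not_dvd_index
  obtain ⟨k, hk⟩ := h128
  have h := (S : Subgroup H).card_mul_index
  rw [f.card_S, hk] at h
  exact hidx ⟨k, by omega⟩

/-- The coordinates of `A`. -/
noncomputable def coordA : ↥(axisU (F := F)) ≃* ↥f.A :=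
  (axisU (F := F)).equivMapOfInjective f.θ f.inj

theorem coordA_coe (y : ↥(axisU (F := F))) : ((f.coordA y : ↥f.A) : H) = f.θ (y : Uni F) := rfl

/-- Multiplication by a scalar on the axis. -/
def scale (c : F) : ↥(axisU (F := F)) →* ↥(axisU (F := F)) :=
  MonoidHom.mk' (fun y => ⟨⟨0, c * y.1.v, c * y.1.w⟩, rfl⟩) fun x y => Subtype.ext (by
    refine Uni.ext ?_ ?_ ?_ <;> simp only [Subgroup.coe_mul, uni_mul_u, uni_mul_v, uni_mul_w]
    · rw [add_zero]
    · ring
    · rw [show y.1.u = 0 from y.2]; ring)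

omit hF in
theorem exists_root (h : Fintype.card F = 4) : ∃ c : F, c * c + c + 1 = 0 := by
  classical
  obtain ⟨c, -, hc⟩ := Finset.exists_mem_notMem_of_card_lt_card
    (t := (Finset.univ : Finset F)) (s := {0, 1}) (by
      rw [Finset.card_univ, h]
      exact lt_of_le_of_lt Finset.card_le_two (by norm_num))
  rw [Finset.mem_insert, Finset.mem_singleton, not_or] at hc
  refine ⟨c, ?_⟩
  have h3 := FiniteField.pow_card_sub_one_eq_one c hc.1
  rw [h] at h3
  have : (c - 1) * (c * c + c + 1) = 0 := by linear_combination h3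
  exact (mul_eq_zero.1 this).resolve_left (sub_ne_zero.2 hc.2)

/-- The action of an element of `S` in coordinates. -/
theorem conj_coord (x : Uni F) (y : ↥(axisU (F := F))) :
    x * (y : Uni F) * x⁻¹ = ⟨0, y.1.v, y.1.w + y.1.v * x.u⟩ := by
  have hy : y.1.u = 0 := y.2
  rw [mul_inv_eq_iff_eq_mul]
  refine Uni.ext ?_ ?_ ?_ <;> simp only [uni_mul_u, uni_mul_v, uni_mul_w, hy]
  · ring
  · ring
  · linear_combination (-(y.1.v : F)) * add_self' x.u

/-- The linear data. -/
theorem nonempty_edata : Nonempty (EData f.act.range) := by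
  obtain ⟨c, hc⟩ := exists_root hF.out
  let ω : AddMonoid.End (Additive ↥f.A) :=
    MonoidHom.toAdditive ((f.coordA.toMonoidHom.comp (scale c)).comp f.coordA.symm.toMonoidHom)
  have hω : ∀ y, Additive.toMul (ω (Additive.ofMul (f.coordA y))) = f.coordA (scale c y) := fun y => by
    show f.coordA (scale c (f.coordA.symm (f.coordA y))) = _
    rw [f.coordA.symm_apply_apply]
  have hsurj : ∀ a : Additive ↥f.A, ∃ y, a = Additive.ofMul (f.coordA y) :=
    fun a => ⟨f.coordA.symm (Additive.toMul a), (congrArg Additive.ofMul (f.coordA.apply_symm_apply _)).symm⟩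
  refine ⟨
    { char_two := fun a => Additive.toMul.injective (Subtype.ext (f.sq_A (Additive.toMul a).2))
      card_W := by rw [Nat.card_congr Additive.toMul, f.card_A]
      E := f.imgS
      E_le := map_le_range _ _
      card_E := f.card_imgS
      Z := f.addZ
      card_Z := f.card_addZ
      fix := ?_
      comm := ?_
      not_dvd := f.not_eight_dvd
      ω₀ := ω
      ω₀_quad := ?_
      ω₀_comm := ?_ }⟩
  · rintro _ ⟨n, hn, rfl⟩ hne a
    rw [f.act_fix, f.mem_addZ]
    refine ⟨fun h => ?_, fun h => f.Z_central (mem_subgroupOf.1 hn) h⟩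
    by_contra hZ
    exact hne ((f.act_eq_one n).2 fun b hb =>
      f.comm_A (f.mem_A_of_commute (Additive.toMul a).2 hZ (mem_subgroupOf.1 hn) h) hb)
  · rintro _ ⟨n, hn, rfl⟩ a
    rw [f.mem_addZ]
    show ((Additive.toMul ((f.act n : AddMonoid.End (Additive ↥f.A)) a) : ↥f.A) : H) *
      ((Additive.toMul a : ↥f.A) : H) ∈ f.Z
    rw [f.act_apply]
    conv => enter [2, 2]; rw [← f.inv_A (Additive.toMul a).2]
    exact f.commutator_mem (mem_subgroupOf.1 hn) (f.A_le (Additive.toMul a).2)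
  · intro a
    obtain ⟨y, rfl⟩ := hsurj a
    refine Additive.toMul.injective ?_
    have e1 : ω (Additive.ofMul (f.coordA y)) = Additive.ofMul (f.coordA (scale c y)) :=
      Additive.toMul.injective (hω y)
    have e2 : ω (Additive.ofMul (f.coordA (scale c y))) = Additive.ofMul (f.coordA (scale c (scale c y))) :=
      Additive.toMul.injective (hω _)
    rw [e1, e2]
    show f.coordA (scale c (scale c y)) * f.coordA (scale c y) * f.coordA y = 1
    rw [← map_mul, ← map_mul, ← map_one f.coordA]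
    refine congrArg f.coordA (Subtype.ext (Uni.ext ?_ ?_ ?_))
    · show (0 : F) + 0 + y.1.u = 0
      rw [show y.1.u = 0 from y.2]; ring
    · show c * (c * y.1.v) + c * y.1.v + y.1.v = 0
      linear_combination y.1.v * hc
    · show c * (c * y.1.w) + c * y.1.w + c * (c * y.1.v) * 0 + y.1.w + (c * (c * y.1.v) + c * y.1.v) * y.1.u = 0
      rw [show y.1.u = 0 from y.2]
      linear_combination y.1.w * hc
  · rintro _ ⟨n, hn, rfl⟩
    obtain ⟨x, hx⟩ := f.mem_S.1 (mem_subgroupOf.1 hn : (n : H) ∈ (S : Subgroup H))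
    refine DFunLike.ext _ _ fun a => ?_
    obtain ⟨y, rfl⟩ := hsurj a
    let yx : ↥(axisU (F := F)) := ⟨x * (y : Uni F) * x⁻¹, by rw [conj_coord]; rfl⟩
    have hact : ∀ z : ↥(axisU (F := F)), (f.act n : AddMonoid.End (Additive ↥f.A)) (Additive.ofMul (f.coordA z)) =
        Additive.ofMul (f.coordA ⟨x * (z : Uni F) * x⁻¹, by rw [conj_coord]; rfl⟩) := fun z =>
      Additive.toMul.injective (Subtype.ext (by
        rw [f.act_apply]
        show (n : H) * (f.coordA z : ↥f.A) * (n : H)⁻¹ = f.θ (x * (z : Uni F) * x⁻¹)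
        rw [f.coordA_coe, ← hx, map_mul, map_mul, map_inv]))
    have e1 : ω (Additive.ofMul (f.coordA y)) = Additive.ofMul (f.coordA (scale c y)) :=
      Additive.toMul.injective (hω y)
    show ω ((f.act n : AddMonoid.End (Additive ↥f.A)) (Additive.ofMul (f.coordA y))) =
      (f.act n : AddMonoid.End (Additive ↥f.A)) (ω (Additive.ofMul (f.coordA y)))
    rw [hact, e1, hact]
    refine Additive.toMul.injective ((hω _).trans (congrArg f.coordA (Subtype.ext ?_)))
    show (⟨0, c * (x * (y : Uni F) * x⁻¹).v, c * (x * (y : Uni F) * x⁻¹).w⟩ : Uni F) =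
      x * ((scale c y : ↥(axisU (F := F))) : Uni F) * x⁻¹
    rw [conj_coord, conj_coord]
    refine Uni.ext rfl rfl ?_
    show c * (y.1.w + y.1.v * x.u) = c * y.1.w + c * y.1.v * x.u
    ring

/-- A field of four elements commutes with the normaliser. -/
theorem exists_omega : ∃ M : AddMonoid.End (Additive ↥f.A), Quad M ∧
    ∀ n, Commute M (f.act n : AddMonoid.End (Additive ↥f.A)) := by
  obtain ⟨D⟩ := f.nonempty_edata
  obtain ⟨M, hq, hc⟩ := D.exists_omega
  exact ⟨M, hq, fun n => hc _ ⟨n, rfl⟩⟩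

/-- An element normalising `A` and fixing an element of `Z#` centralises `Z`. -/
theorem centralizes_Z {n z : H} (hn : n ∈ normalizer (f.A : Set H)) (hz : z ∈ f.Z) (hz1 : z ≠ 1)
    (h : n * z = z * n) {w : H} (hw : w ∈ f.Z) : n * w = w * n := by
  obtain ⟨D⟩ := f.nonempty_edata
  obtain ⟨M, hq, hc⟩ := f.exists_omega
  obtain ⟨s, hsS, hsA⟩ : ∃ s ∈ (S : Subgroup H), s ∉ f.A := SetLike.not_le_iff_exists.1 fun hle => by
    have := card_le_of_le hle
    rw [f.card_A, f.card_S] at this
    omega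
  obtain ⟨a, ha, haZ⟩ : ∃ a ∈ f.A, a ∉ f.Z := SetLike.not_le_iff_exists.1 fun hle => by
    have := card_le_of_le hle
    rw [f.card_A, f.card_Z] at this
    omega
  set e : ↥(normalizer (f.A : Set H)) := ⟨s, f.A_normal hsS⟩
  have hZ : ∀ v ∈ f.addZ, M v ∈ f.addZ := fun v hv => by
    rw [f.mem_addZ]
    by_contra hMv
    refine hsA (f.mem_A_of_commute (Additive.toMul (M v)).2 hMv hsS ((f.act_fix e (M v)).1 ?_))
    rw [show (f.act e : AddMonoid.End (Additive ↥f.A)) (M v) = M ((f.act e : AddMonoid.End (Additive ↥f.A)) v)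
      from (DFunLike.congr_fun (hc e).eq v).symm, (f.act_fix e v).2 (f.Z_central hsS hv)]
  set v : Additive ↥f.A := Additive.ofMul ⟨z, f.Z_le_A hz⟩
  set u : Additive ↥f.A := Additive.ofMul ⟨w, f.Z_le_A hw⟩
  have hv : (f.act ⟨n, hn⟩ : AddMonoid.End (Additive ↥f.A)) v = v := (f.act_fix _ _).2 h
  refine (f.act_fix ⟨n, hn⟩ u).1 ?_
  have hMv : (f.act ⟨n, hn⟩ : AddMonoid.End (Additive ↥f.A)) (M v) = M v := by
    rw [show (f.act ⟨n, hn⟩ : AddMonoid.End (Additive ↥f.A)) (M v) =
      M ((f.act ⟨n, hn⟩ : AddMonoid.End (Additive ↥f.A)) v) from (DFunLike.congr_fun (hc _).eq v).symm, hv]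
  have hv0 : v ≠ 0 := fun h0 => hz1 (congrArg (fun b => ((Additive.toMul b : ↥f.A) : H)) h0)
  have hMv0 : M v ≠ 0 := fun h0 => hv0 (by have := hq v; rwa [h0, map_zero, add_zero, zero_add] at this)
  have hvM : v ≠ M v := fun h0 => hv0 (by
    have := hq v
    rwa [← h0, ← h0, D.char_two, zero_add] at this)
  have hvZ : v ∈ f.addZ := hz
  classical
  haveI := Fintype.ofFinite ↥f.addZ
  by_contra hne
  let l : List ↥f.addZ := [0, ⟨v, hvZ⟩, ⟨M v, hZ v hvZ⟩, ⟨v + M v, add_mem hvZ (hZ v hvZ)⟩, ⟨u, hw⟩]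
  have hl : l.Nodup := by
    have h1 : v + M v ≠ 0 := fun h0 => hvM (D.eq_of_add h0)
    have h2 : v + M v ≠ v := fun h0 => hMv0 (add_eq_left.1 h0)
    have h3 : v + M v ≠ M v := fun h0 => hv0 (add_eq_right.1 h0)
    have k0 : u ≠ 0 := fun h0 => hne (by rw [h0, map_zero])
    have k1 : u ≠ v := fun h0 => hne (by rw [h0, hv])
    have k2 : u ≠ M v := fun h0 => hne (by rw [h0, hMv])
    have k3 : u ≠ v + M v := fun h0 => hne (by rw [h0, map_add, hv, hMv])
    simp [l, Subtype.ext_iff, hv0.symm, hMv0.symm, hvM, h1.symm, h2.symm, h3.symm, k0.symm, k1.symm, k2.symm,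
      k3.symm]
  have h5 := hl.length_le_card
  rw [← Nat.card_eq_fintype_card, f.card_addZ] at h5
  simp [l] at h5

/-- In the centraliser of an element of `Z#`, elements of `A` outside `Z` are not fused into `Z`. -/
theorem not_fused_cent {a z g : H} (ha : a ∈ f.A) (haZ : a ∉ f.Z) (hz : z ∈ f.Z) (hz1 : z ≠ 1)
    (hg : g ∈ centralizer ({z} : Set H)) : g * a * g⁻¹ ∉ f.Z := by
  intro h
  have hga := mem_centralizer_singleton_iff.1 hg
  set y := g * a * g⁻¹ with hy
  set C := centralizer ({y} : Set H) ⊓ centralizer ({z} : Set H) with hC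
  have hmem : ∀ {x : H}, x ∈ C ↔ x * y = y * x ∧ x * z = z * x := fun {x} => by
    rw [hC, mem_inf, mem_centralizer_singleton_iff, mem_centralizer_singleton_iff]
  have hAC : f.A ≤ C := fun b hb => hmem.2 ⟨f.comm_A hb (f.Z_le_A h), f.comm_A hb (f.Z_le_A hz)⟩
  have hgA : ∀ b ∈ f.A, g * b * g⁻¹ ∈ C := fun b hb => hmem.2 ⟨by
    have e := f.comm_A hb ha
    calc g * b * g⁻¹ * y = g * (b * a) * g⁻¹ := by rw [hy]; group
      _ = g * (a * b) * g⁻¹ := by rw [e]
      _ = y * (g * b * g⁻¹) := by rw [hy]; group, by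
    have e := f.comm_A hb (f.Z_le_A hz)
    have e1 : g⁻¹ * z = z * g⁻¹ := (Commute.inv_left hga).eq
    calc g * b * g⁻¹ * z = g * (b * z) * g⁻¹ := by rw [mul_assoc (g * b), e1]; group
      _ = g * (z * b) * g⁻¹ := by rw [e]
      _ = z * (g * b * g⁻¹) := by rw [← mul_assoc g z, hga]; group⟩
  have hgA' : MulAut.conj g • f.A ≤ C := fun x hx => by
    have := hgA _ (CfsgLib.CIT.FourRecog.mem_conj.1 hx)
    simpa [mul_assoc] using this
  have hp : ∀ {K : Subgroup H}, Nat.card K = 16 → IsPGroup 2 K := fun h =>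
    IsPGroup.of_card (n := 4) (by rw [h]; norm_num)
  obtain ⟨T, hT⟩ := ((hp f.card_A).comap_of_injective C.subtype C.subtype_injective).exists_le_sylow
  obtain ⟨T', hT'⟩ := ((hp (by rw [CfsgLib.CIT.FourRecog.card_conj, f.card_A] :
    Nat.card ↥(MulAut.conj g • f.A) = 16)).comap_of_injective C.subtype C.subtype_injective).exists_le_sylow
  obtain ⟨c, hc⟩ := MulAction.exists_smul_eq C T' T
  have hle : MulAut.conj ((c : H) * g) • f.A ≤ (T : Subgroup C).map C.subtype := fun x hx => by
    rw [conjH_mul f, CfsgLib.CIT.FourRecog.mem_conj] at hx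
    have hxC : x ∈ C := by
      have := C.mul_mem (C.mul_mem c.2 (hgA' hx)) (C.inv_mem c.2)
      simpa [mul_assoc] using this
    refine ⟨⟨x, hxC⟩, ?_, rfl⟩
    rw [SetLike.mem_coe, ← hc, Sylow.coe_subgroup_smul, mem_pointwise_smul_iff_inv_smul_mem, ← map_inv,
      MulAut.smul_def, MulAut.conj_apply, inv_inv]
    exact hT' hx
  have hle1 : MulAut.conj (1 : H) • f.A ≤ (T : Subgroup C).map C.subtype := by
    rw [map_one, one_smul]
    exact fun b hb => ⟨⟨b, hAC hb⟩, hT hb, rfl⟩
  have heq := f.conj_unique (T.isPGroup'.map C.subtype) hle hle1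
  rw [map_one, one_smul] at heq
  have hn : (c : H) * g ∈ normalizer (f.A : Set H) := CfsgLib.CIT.FourRecog.conj_eq_self_iff.1 heq
  obtain ⟨hcy, hcz⟩ := hmem.1 c.2
  have hnz : (c : H) * g * z = z * ((c : H) * g) := by rw [mul_assoc, hga, ← mul_assoc, hcz, mul_assoc]
  have h1 := f.centralizes_Z hn hz hz1 hnz h
  refine haZ ?_
  have h2 : (c : H) * g * a * ((c : H) * g)⁻¹ = y := by
    calc (c : H) * g * a * ((c : H) * g)⁻¹ = (c : H) * y * (c : H)⁻¹ := by rw [hy]; group
      _ = y := by rw [hcy, mul_inv_cancel_right]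
  have h3 : a = y := by
    calc a = ((c : H) * g)⁻¹ * ((c : H) * g * a * ((c : H) * g)⁻¹) * ((c : H) * g) := by group
      _ = ((c : H) * g)⁻¹ * (y * ((c : H) * g)) := by rw [h2, mul_assoc]
      _ = y := by rw [← h1, inv_mul_cancel_left]
  exact h3 ▸ h

end Frame

end CfsgLib.LThreeFour
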