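import Cfsg.Agent.Lib.LThreeFour.Action
import Cfsg.Agent.Lib.Struct76.Basic
import Cfsg.Prelude.Def_PLocal
import Cfsg.Prelude.Def_TwoFusion

/-!
# A strongly closed `A` is normal

Given the structure of the normal closure of a strongly closed abelian subgroup (Goldschmidt), `A` strongly
closed in a core-free group is normal.
-/

set_option autoImplicit false
set_option linter.unusedSectionVars false
set_option linter.style.haveILetI false

namespace CfsgLib.LThreeFour

open Subgroup CfsgLib.InvCharThree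
open scoped Pointwise IsMulCommutative

universe u

/-- The consequence used of Goldschmidt's theorem on strongly closed abelian subgroups. -/
def SCStructure : Prop :=
  ∀ {G : Type u} [Group G] [Finite G] (S : Sylow 2 G) (A : Subgroup G), IsMulCommutative ↥A →
    Cfsg.IsStronglyClosed A (S : Subgroup G) → Cfsg.oddCore G = ⊥ →
      Cfsg.pCore 2 ↥(normalClosure (A : Set G)) ≤ center ↥(normalClosure (A : Set G)) ∧
        ∃ T : Sylow 2 ↥(normalClosure (A : Set G)),
          A.subgroupOf (normalClosure (A : Set G)) ≤ (T : Subgroup ↥(normalClosure (A : Set G))) ∧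
            A.subgroupOf (normalClosure (A : Set G)) = Cfsg.pCore 2 ↥(normalClosure (A : Set G)) ⊔
              Cfsg.omegaOne 2 (T : Subgroup ↥(normalClosure (A : Set G)))

variable {F : Type*} [Field F] [Fintype F] [hF : Fact (Fintype.card F = 4)]
variable {H : Type u} [Group H] [Finite H] {S : Sylow 2 H} (f : Frame F (S : Subgroup H))

local instance : Fact (Nat.Prime 2) := ⟨Nat.prime_two⟩

theorem oddCore_of_normal (hO : Cfsg.oddCore H = ⊥) (K : Subgroup H) [K.Normal] : Cfsg.oddCore ↥K = ⊥ :=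
  CfsgLib.PCore.pPrimeCore_eq_bot_of_normal K hO

/-- A normal subgroup meeting a Sylow 2-subgroup trivially is trivial in a core-free group. -/
theorem eq_bot_of_inf {G : Type u} [Group G] [Finite G] (hO : Cfsg.oddCore G = ⊥) (P : Sylow 2 G)
    (N : Subgroup G) [N.Normal] (h : ∀ x ∈ (P : Subgroup G), x ∈ N → x = 1) : N = ⊥ := by
  obtain ⟨Q, hQ⟩ := CfsgLib.Struct76.exists_sylow_inf_normal P N
  have hQ1 : (Q : Subgroup N) = ⊥ := by
    rw [eq_bot_iff, hQ]
    exact fun x hx => mem_bot.2 (Subtype.ext (h _ (mem_subgroupOf.1 hx) x.2))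
  have hc : (Nat.card N).Coprime 2 := by
    refine CfsgLib.PCore.coprime_of_not_dvd_card fun h2 => ?_
    have := Q.not_dvd_index
    rw [hQ1, index_bot] at this
    exact this h2
  exact le_bot_iff.1 (hO ▸ CfsgLib.PCore.le_pPrimeCore inferInstance hc)

section Line

variable {G : Type u} [Group G] (φ : G →* G) (A : Subgroup G)

/-- A line: the orbit of `a` under a fixed-point-free automorphism of order three, with the identity. -/
def line (hA : ∀ x ∈ A, x * x = 1) (hφA : ∀ x ∈ A, φ x ∈ A) (hq : ∀ x ∈ A, φ (φ x) * φ x * x = 1)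
    (a : G) (ha : a ∈ A) : Subgroup G where
  carrier := {w | w = 1 ∨ w = a ∨ w = φ a ∨ w = a * φ a}
  one_mem' := Or.inl rfl
  mul_mem' := by
    have hcomm : a * φ a = φ a * a := by
      have e := inv_eq_of_mul_eq_one_right (hA _ (mul_mem ha (hφA a ha)))
      rw [mul_inv_rev, inv_eq_of_mul_eq_one_right (hA a ha),
        inv_eq_of_mul_eq_one_right (hA _ (hφA a ha))] at e
      exact e.symm
    have h1 : a * a = 1 := hA a ha
    have h2 : φ a * φ a = 1 := hA _ (hφA a ha)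
    have h3 : a * φ a * (a * φ a) = 1 := hA _ (mul_mem ha (hφA a ha))
    have _ := hq
    have k1 : ∀ x, a * (a * x) = x := fun x => by rw [← mul_assoc, h1, one_mul]
    have k2 : ∀ x, φ a * (φ a * x) = x := fun x => by rw [← mul_assoc, h2, one_mul]
    have k3 : ∀ x, φ a * (a * x) = a * (φ a * x) := fun x => by rw [← mul_assoc, ← hcomm, mul_assoc]
    rintro v w (rfl | rfl | rfl | rfl) (rfl | rfl | rfl | rfl) <;>
      simp [mul_assoc, h1, h2, k1, k2, k3, ← hcomm]
  inv_mem' := by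
    rintro w (rfl | rfl | rfl | rfl)
    · exact Or.inl inv_one
    · exact Or.inr (Or.inl (inv_eq_of_mul_eq_one_right (hA _ ha)))
    · exact Or.inr (Or.inr (Or.inl (inv_eq_of_mul_eq_one_right (hA _ (hφA _ ha)))))
    · exact Or.inr (Or.inr (Or.inr (inv_eq_of_mul_eq_one_right (hA _ (mul_mem ha (hφA _ ha))))))

variable {φ A} (hA : ∀ x ∈ A, x * x = 1) (hφA : ∀ x ∈ A, φ x ∈ A) (hq : ∀ x ∈ A, φ (φ x) * φ x * x = 1)

include hA hφA hq

theorem phi_phi {x : G} (hx : x ∈ A) : φ (φ x) = x * φ x := by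
  have h := hq x hx
  rw [mul_assoc, mul_eq_one_iff_eq_inv, mul_inv_rev, inv_eq_of_mul_eq_one_right (hA x hx),
    inv_eq_of_mul_eq_one_right (hA _ (hφA x hx))] at h
  exact h

theorem self_mem_line {a : G} (ha : a ∈ A) : a ∈ line φ A hA hφA hq a ha := Or.inr (Or.inl rfl)

theorem phi_mem_line {a w : G} (ha : a ∈ A) (hw : w ∈ line φ A hA hφA hq a ha) :
    φ w ∈ line φ A hA hφA hq a ha := by
  have e := phi_phi hA hφA hq ha
  rcases hw with rfl | rfl | rfl | rfl
  · exact Or.inl (map_one φ)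
  · exact Or.inr (Or.inr (Or.inl rfl))
  · exact Or.inr (Or.inr (Or.inr e))
  · refine Or.inr (Or.inl ?_)
    rw [map_mul, e]
    have hc : a * φ a = φ a * a := by
      have e' := inv_eq_of_mul_eq_one_right (hA _ (mul_mem ha (hφA a ha)))
      rw [mul_inv_rev, inv_eq_of_mul_eq_one_right (hA a ha),
        inv_eq_of_mul_eq_one_right (hA _ (hφA a ha))] at e'
      exact e'.symm
    rw [hc, ← mul_assoc, hA _ (hφA a ha), one_mul]

theorem line_le {a : G} (ha : a ∈ A) : line φ A hA hφA hq a ha ≤ A := by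
  rintro w (rfl | rfl | rfl | rfl)
  · exact one_mem A
  · exact ha
  · exact hφA _ ha
  · exact mul_mem ha (hφA _ ha)

theorem card_line_le {a : G} (ha : a ∈ A) : Nat.card ↥(line φ A hA hφA hq a ha) ≤ 4 := by
  classical
  let s : Finset G := {1, a, φ a, a * φ a}
  calc Nat.card ↥(line φ A hA hφA hq a ha) ≤ Nat.card ↥(s : Set G) :=
        Nat.card_le_card_of_injective (fun w => (⟨w.1, by
          have := w.2
          simpa [s, line] using this⟩ : ↥(s : Set G))) fun v w h => Subtype.ext (congrArg Subtype.val h :)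
    _ = s.card := by rw [Nat.card_coe_set_eq, Set.ncard_coe_finset]
    _ ≤ 4 := Finset.card_le_four

/-- Lines through distinct points meet trivially. -/
theorem line_inf {a b : G} (ha : a ∈ A) (hb : b ∈ A) (hba : b ∉ line φ A hA hφA hq a ha) {w : G}
    (hwa : w ∈ line φ A hA hφA hq a ha) (hwb : w ∈ line φ A hA hφA hq b hb) : w = 1 := by
  by_contra hw
  refine hba ?_
  have e := phi_phi hA hφA hq hb
  have h1 := phi_mem_line hA hφA hq ha hwa
  rcases hwb with h | h | h | h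
  · exact absurd h hw
  · exact h ▸ hwa
  · have h2 := mul_mem hwa h1
    rw [h, e, ← mul_assoc] at h2
    have hc : φ b * b = b * φ b := by
      have e' := inv_eq_of_mul_eq_one_right (hA _ (mul_mem hb (hφA b hb)))
      rwa [mul_inv_rev, inv_eq_of_mul_eq_one_right (hA b hb),
        inv_eq_of_mul_eq_one_right (hA _ (hφA b hb))] at e'
    rwa [hc, mul_assoc, hA _ (hφA b hb), mul_one] at h2
  · rw [h, map_mul, e] at h1
    have hc : φ b * (b * φ b) = b := by
      have e' := inv_eq_of_mul_eq_one_right (hA _ (mul_mem hb (hφA b hb)))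
      rw [mul_inv_rev, inv_eq_of_mul_eq_one_right (hA b hb),
        inv_eq_of_mul_eq_one_right (hA _ (hφA b hb))] at e'
      rw [← e', ← mul_assoc, hA _ (hφA b hb), one_mul]
    rwa [hc] at h1

end Line

namespace Frame

include f

/-- All 2-subgroups elementwise inside `A`: the Sylow 2-subgroup of `⟨A^H⟩`. -/
theorem inf_closure (hSC : SCStructure.{u}) (hO : Cfsg.oddCore H = ⊥)
    (hA : Cfsg.IsStronglyClosed f.A (S : Subgroup H)) {x : H} (hxS : x ∈ (S : Subgroup H))
    (hxK : x ∈ normalClosure (f.A : Set H)) : x ∈ f.A := by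
  set K := normalClosure (f.A : Set H) with hK
  obtain ⟨-, T, hAT, hTA⟩ := hSC S f.A f.instCommA hA hO
  obtain ⟨T0, hT0⟩ := CfsgLib.Struct76.exists_sylow_inf_normal S K
  have hAK : f.A ≤ K := subset_normalClosure
  have key : ∀ y : ↥K, y ∈ (T0 : Subgroup ↥K) → y * y = 1 → (y : H) ∈ f.A := by
    intro y hy hy2
    obtain ⟨c, hc⟩ := MulAction.exists_smul_eq ↥K T T0
    rw [← hc, Sylow.coe_subgroup_smul, mem_pointwise_smul_iff_inv_smul_mem, ← map_inv, MulAut.smul_def,
      MulAut.conj_apply, inv_inv] at hy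
    have h1 : c⁻¹ * y * c ∈ f.A.subgroupOf K := by
      rw [hTA]
      refine mem_sup_right (subset_closure ⟨hy, ?_⟩)
      rw [pow_two, show c⁻¹ * y * c * (c⁻¹ * y * c) = c⁻¹ * (y * y) * c by group, hy2, mul_one, inv_mul_cancel]
    have hcA : MulAut.conj (c : H) • f.A = f.A := f.conj_eq_A fun z hz => by
      have hz' := CfsgLib.CIT.FourRecog.mem_conj.1 hz
      have hzK : z ∈ K := by
        have := K.mul_mem (K.mul_mem c.2 (hAK hz')) (K.inv_mem c.2)
        simpa [mul_assoc] using this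
      have : (⟨z, hzK⟩ : ↥K) ∈ (T0 : Subgroup ↥K) := by
        rw [← hc, Sylow.coe_subgroup_smul, mem_pointwise_smul_iff_inv_smul_mem, ← map_inv, MulAut.smul_def,
          MulAut.conj_apply, inv_inv]
        exact hAT (mem_subgroupOf.2 hz')
      rw [hT0] at this
      exact mem_subgroupOf.1 this
    rw [← hcA, CfsgLib.CIT.FourRecog.mem_conj]
    exact mem_subgroupOf.1 h1
  obtain ⟨y, rfl⟩ := f.mem_S.1 hxS
  rw [f.mem_A]
  set p : H := f.θ ⟨0, y.v, y.w + y.v * y.u⟩ with hp_def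
  have hp : p ∈ f.A := f.mem_A.2 rfl
  have hq : f.θ ⟨y.u, 0, 0⟩ = p⁻¹ * f.θ y := by
    conv_rhs => rw [CfsgLib.InvCharPSLThree.mul_decomp y]
    rw [map_mul, hp_def, inv_mul_cancel_left]
  have hqK : f.θ ⟨y.u, 0, 0⟩ ∈ K := hq ▸ K.mul_mem (K.inv_mem (hAK hp)) hxK
  exact (f.mem_A (y := ⟨y.u, 0, 0⟩)).1 (key ⟨_, hqK⟩ (by rw [hT0]; exact mem_subgroupOf.2 (f.θ_mem _))
    (Subtype.ext (f.sq_B (f.mem_B.2 rfl))))

/-- **A strongly closed `A` is normal.** -/
theorem normal_of_closed (hSC : SCStructure.{u}) (hO : Cfsg.oddCore H = ⊥)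
    (hA : Cfsg.IsStronglyClosed f.A (S : Subgroup H)) : f.A.Normal := by
  set K := normalClosure (f.A : Set H) with hK
  have hKn : K.Normal := normalClosure_normal
  have hOK : Cfsg.oddCore ↥K = ⊥ := oddCore_of_normal hO K
  have hAK : f.A ≤ K := subset_normalClosure
  set AK := f.A.subgroupOf K with hAKdef
  obtain ⟨T0, hT0⟩ := CfsgLib.Struct76.exists_sylow_inf_normal S K
  have hT0A : (T0 : Subgroup ↥K) = AK := by
    rw [hT0]
    ext x
    exact ⟨fun h => mem_subgroupOf.2 (f.inf_closure hSC hO hA (mem_subgroupOf.1 h) x.2),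
      fun h => mem_subgroupOf.2 (f.A_le (mem_subgroupOf.1 h))⟩
  have hcard : Nat.card AK = 16 := by rw [hAKdef, Nat.card_congr (subgroupOfEquivOfLe hAK).toEquiv, f.card_A]
  have hAcomm : ∀ x ∈ AK, ∀ y ∈ AK, x * y = y * x := fun x hx y hy =>
    Subtype.ext (f.comm_A (mem_subgroupOf.1 hx) (mem_subgroupOf.1 hy))
  have hAsq : ∀ x ∈ AK, x * x = 1 := fun x hx => Subtype.ext (f.sq_A (mem_subgroupOf.1 hx))
  haveI hcomm : IsMulCommutative ↥(T0 : Subgroup ↥K) :=
    ⟨⟨fun a b => Subtype.ext (hAcomm a (hT0A ▸ a.2) b (hT0A ▸ b.2))⟩⟩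
  have hnorm : ∀ m : ↥K, m ∈ normalizer ((T0 : Subgroup ↥K) : Set ↥K) → (m : H) ∈ normalizer (f.A : Set H) :=
    fun m hm => mem_normalizer_iff.2 fun a => by
      rw [hT0A] at hm
      refine ⟨fun ha => mem_subgroupOf.1 ((mem_normalizer_iff.1 hm ⟨a, hAK ha⟩).1 (mem_subgroupOf.2 ha)),
        fun ha => ?_⟩
      have haK : a ∈ K := by
        have := K.mul_mem (K.mul_mem (K.inv_mem m.2) (hAK ha)) m.2
        simpa [mul_assoc] using this
      exact mem_subgroupOf.1 ((mem_normalizer_iff.1 hm ⟨a, haK⟩).2 (mem_subgroupOf.2 ha))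
  by_cases hcen : ∀ n ∈ normalizer (f.A : Set H), n ∈ K → ∀ a ∈ f.A, n * a = a * n
  · have hPC : normalizer ((T0 : Subgroup ↥K) : Set ↥K) ≤ centralizer ((T0 : Subgroup ↥K) : Set ↥K) := fun m hm =>
      mem_centralizer_iff.2 fun a ha => by
        rw [hT0A] at ha
        exact Subtype.ext (hcen m (hnorm m hm) m.2 a (mem_subgroupOf.1 ha)).symm
    have hk : (MonoidHom.transferSylow T0 hPC).ker = ⊥ := le_bot_iff.1 (hOK ▸
      CfsgLib.PCore.le_pPrimeCore inferInstance
        (CfsgLib.PCore.coprime_of_not_dvd_card (MonoidHom.not_dvd_card_ker_transferSylow T0 hPC)))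
    have hc := (MonoidHom.ker_transferSylow_isComplement' T0 hPC).card_mul_card
    rw [hk, Subgroup.card_bot, one_mul, hT0A, hcard] at hc
    have : f.A = K := eq_of_le_of_card_ge hAK (by rw [f.card_A, ← hc])
    rw [this]
    infer_instance
  exfalso
  push Not at hcen
  obtain ⟨n, hnN, hnK, a0, ha0, hn0⟩ := hcen
  -- the odd normal subgroup of the automizer
  set N := normalizer (f.A : Set H)
  set R := (K.subgroupOf N).map f.act with hR
  have hRY : R ≤ f.act.range := map_le_range _ _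
  have hRn : ∀ y ∈ f.act.range, ∀ r ∈ R, y * r * y⁻¹ ∈ R := by
    rintro _ ⟨m, rfl⟩ _ ⟨r, hr, rfl⟩
    exact ⟨m * r * m⁻¹, mem_subgroupOf.2 (hKn.conj_mem _ (mem_subgroupOf.1 hr) _), by simp⟩
  have hodd : Odd (Nat.card R) := by
    let ψ : ↥(K.subgroupOf N) →* (AddMonoid.End (Additive ↥f.A))ˣ := f.act.comp (K.subgroupOf N).subtype
    have hr : ψ.range = R := by rw [MonoidHom.range_comp, range_subtype]
    have hk : 16 ∣ Nat.card ψ.ker := by
      have h1 : (f.A.subgroupOf N).subgroupOf (K.subgroupOf N) ≤ ψ.ker := fun x hx =>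
        MonoidHom.mem_ker.2 ((f.act_eq_one _).2 fun b hb =>
          f.comm_A (mem_subgroupOf.1 (mem_subgroupOf.1 hx)) hb)
      have h2 := card_dvd_of_le h1
      rwa [Nat.card_congr (subgroupOfEquivOfLe (fun x hx => mem_subgroupOf.2 (hAK (mem_subgroupOf.1 hx)))).toEquiv,
        Nat.card_congr (subgroupOfEquivOfLe le_normalizer).toEquiv, f.card_A] at h2
    rw [← Nat.not_even_iff_odd, even_iff_two_dvd]
    intro h2
    have h32 : 32 ∣ Nat.card ↥K := by
      refine (?_ : 32 ∣ Nat.card ↥(K ⊓ N : Subgroup H)).trans (card_dvd_of_le inf_le_left)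
      rw [← Nat.card_congr (subgroupOfEquivOfLe (inf_le_right : K ⊓ N ≤ N)).toEquiv, inf_subgroupOf_right,
        ← ψ.ker.card_mul_index, Subgroup.index_ker, hr]
      exact (show 32 = 16 * 2 by norm_num) ▸ Nat.mul_dvd_mul hk h2
    have hidx := T0.not_dvd_index
    obtain ⟨k, hk'⟩ := h32
    have := (T0 : Subgroup ↥K).card_mul_index
    rw [hT0A, hcard, hk'] at this
    rw [hT0A] at hidx
    exact hidx ⟨k, by omega⟩
  obtain ⟨D⟩ := f.nonempty_edata
  have hprop : ∀ m : ↥N, (m : H) ∈ K → f.act m = 1 ∨ (f.act m) ^ 3 = 1 ∧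
      Quad (f.act m : AddMonoid.End (Additive ↥f.A)) ∧ ∀ e ∈ D.E,
        Commute (f.act m : AddMonoid.End (Additive ↥f.A)) e :=
    fun m hm => D.odd_normal hRY hRn hodd ⟨m, mem_subgroupOf.2 hm, rfl⟩
  obtain ⟨hx3, hxq, hxc⟩ := (hprop ⟨n, hnN⟩ hnK).resolve_left fun h => hn0 ((f.act_eq_one _).1 h a0 ha0)
  set x : ↥f.act.range := ⟨f.act ⟨n, hnN⟩, ⟨_, rfl⟩⟩
  -- the automorphism on `K`
  set nK : ↥K := ⟨n, hnK⟩
  set φ : ↥K →* ↥K := (MulAut.conj nK).toMonoidHom
  have hφA : ∀ b ∈ AK, φ b ∈ AK := fun b hb =>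
    mem_subgroupOf.2 ((mem_normalizer_iff.1 hnN _).1 (mem_subgroupOf.1 hb))
  have hq : ∀ b ∈ AK, φ (φ b) * φ b * b = 1 := fun b hb => by
    have h := congrArg (fun v => ((Additive.toMul v : ↥f.A) : H))
      (hxq (Additive.ofMul ⟨b, mem_subgroupOf.1 hb⟩))
    exact Subtype.ext h
  have hmove : ∀ m : ↥K, m ∈ normalizer ((T0 : Subgroup ↥K) : Set ↥K) → ∀ b ∈ AK,
      m * b * m⁻¹ = b ∨ m * b * m⁻¹ = φ b ∨ m * b * m⁻¹ = φ (φ b) := by
    intro m hm b hb
    have hmN := hnorm m hm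
    rcases hprop ⟨m, hmN⟩ m.2 with h | ⟨h3, hq', hc'⟩
    · exact Or.inl (Subtype.ext (mul_inv_eq_iff_eq_mul.2 ((f.act_eq_one _).1 h b (mem_subgroupOf.1 hb))))
    · have hE : ∀ y : ↥f.act.range, (∀ e ∈ D.E, Commute ((y : (AddMonoid.End (Additive ↥f.A))ˣ) :
          AddMonoid.End (Additive ↥f.A)) e) → ∀ e ∈ D.E', e * y = y * e :=
        fun y hy e he => Subtype.ext (Units.ext (hy e (mem_subgroupOf.1 he)).eq.symm)
      rcases D.pair_cases (x' := ⟨f.act ⟨m, hmN⟩, ⟨_, rfl⟩⟩) (hE x hxc) (hE _ hc') (Subtype.ext hx3)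
          (Subtype.ext h3) hxq hq' with h | h
      · refine Or.inr (Or.inl (Subtype.ext ?_))
        exact congrArg (fun y : ↥f.act.range => ((Additive.toMul ((((y : (AddMonoid.End (Additive ↥f.A))ˣ)) :
          AddMonoid.End (Additive ↥f.A)) (Additive.ofMul ⟨b, mem_subgroupOf.1 hb⟩)) : ↥f.A) : H)) h
      · refine Or.inr (Or.inr (Subtype.ext ?_))
        exact congrArg (fun y : ↥f.act.range => ((Additive.toMul ((((y : (AddMonoid.End (Additive ↥f.A))ˣ)) :
          AddMonoid.End (Additive ↥f.A)) (Additive.ofMul ⟨b, mem_subgroupOf.1 hb⟩)) : ↥f.A) : H)) h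
  -- no normal 2-subgroup
  have hO2 : Cfsg.pCore 2 ↥K = ⊥ := by
    refine eq_bot_iff.2 fun b hb => mem_bot.2 ?_
    have hbA : b ∈ AK := hT0A ▸ CfsgLib.PCore.pCore_le_sylow T0 hb
    have hcen' := mem_center_iff.1 ((hSC S f.A f.instCommA hA hO).1 hb) nK
    have hφb : φ b = b := by
      show nK * b * nK⁻¹ = b
      rw [hcen', mul_inv_cancel_right]
    have := hq b hbA
    rwa [hφb, hφb, hAsq b hbA, one_mul] at this
  -- the normal closures of lines
  let L : ∀ a ∈ AK, Subgroup ↥K := fun a ha => line φ AK hAsq hφA hq a ha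
  let K1 : ∀ a ∈ AK, Subgroup ↥K := fun a ha => normalClosure (L a ha : Set ↥K)
  have hLle : ∀ a ha, L a ha ≤ AK := fun a ha => line_le hAsq hφA hq ha
  have hinf : ∀ a ha, ∀ y ∈ AK, y ∈ K1 a ha → y ∈ L a ha := by
    intro a ha y hy hyK1
    have hLc : IsMulCommutative ↥(L a ha) :=
      ⟨⟨fun p q => Subtype.ext (hAcomm _ (hLle a ha p.2) _ (hLle a ha q.2))⟩⟩
    have hsc : Cfsg.IsStronglyClosed (L a ha) (T0 : Subgroup ↥K) := by
      refine ⟨hT0A ▸ hLle a ha, fun w hw g hgw => ?_⟩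
      obtain ⟨m, hm, hmw⟩ := Sylow.conj_eq_normalizer_conj_of_mem T0 w g⁻¹ (show w ∈ (T0 : Subgroup ↥K) from hT0A.symm ▸ hLle a ha hw)
        (by rw [inv_inv]; exact hgw)
      rw [inv_inv] at hmw
      rw [hmw]
      rcases hmove m⁻¹ (inv_mem hm) w (hLle a ha hw) with h | h | h <;> rw [inv_inv] at h <;> rw [h]
      · exact hw
      · exact phi_mem_line hAsq hφA hq ha hw
      · exact phi_mem_line hAsq hφA hq ha (phi_mem_line hAsq hφA hq ha hw)
    obtain ⟨-, T1, hLT, hTL⟩ := hSC T0 (L a ha) hLc hsc hOK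
    set LK := (L a ha).subgroupOf (normalClosure (L a ha : Set ↥K))
    have hTle : (T1 : Subgroup _) ≤ LK := fun t ht => by
      rw [hTL]
      refine mem_sup_right (subset_closure ⟨ht, ?_⟩)
      obtain ⟨P, hP⟩ := (T1.isPGroup'.map (normalClosure (L a ha : Set ↥K)).subtype).exists_le_sylow
      obtain ⟨c, hc⟩ := MulAction.exists_smul_eq ↥K T0 P
      have h1 := hP (mem_map_of_mem _ ht)
      rw [← hc, Sylow.coe_subgroup_smul, mem_pointwise_smul_iff_inv_smul_mem, ← map_inv, MulAut.smul_def,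
        MulAut.conj_apply, inv_inv, hT0A] at h1
      have h2 := hAsq _ h1
      simp only [Subgroup.coe_subtype] at h2
      refine Subtype.ext ?_
      rw [pow_two, Subgroup.coe_mul, OneMemClass.coe_one]
      calc ((t : ↥K) * t) = c * (c⁻¹ * (t : ↥K) * c * (c⁻¹ * (t : ↥K) * c)) * c⁻¹ := by group
        _ = 1 := by rw [h2, mul_one, mul_inv_cancel]
    have hmax := T1.is_maximal' (Q := AK.subgroupOf (normalClosure (L a ha : Set ↥K)))
      ((IsPGroup.of_card (n := 4) (by rw [hcard]; norm_num) : IsPGroup 2 AK).comap_of_injective _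
        (subtype_injective _))
      fun t ht => mem_subgroupOf.2 (hLle a ha (mem_subgroupOf.1 (hTle ht)))
    exact mem_subgroupOf.1 (hTle (hmax ▸ (mem_subgroupOf.2 hy :
      (⟨y, hyK1⟩ : ↥(normalClosure (L a ha : Set ↥K))) ∈ AK.subgroupOf _)))
  have hcomm1 : ∀ a ha b hb, b ∉ L a ha → ∀ p ∈ K1 a ha, ∀ q ∈ K1 b hb, p * q = q * p := by
    intro a ha b hb hba p hp q hq'
    haveI : (K1 a ha).Normal := normalClosure_normal
    haveI : (K1 b hb).Normal := normalClosure_normal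
    refine Subgroup.commute_of_normal_of_disjoint _ _ inferInstance inferInstance (disjoint_iff.2 ?_) p q hp hq'
    refine eq_bot_of_inf hOK T0 _ fun y hy hyi => ?_
    rw [hT0A] at hy
    exact line_inf hAsq hφA hq ha hb hba (hinf a ha y hy hyi.1) (hinf b hb y hy hyi.2)
  obtain ⟨a1, ha1, ha11⟩ : ∃ a ∈ AK, a ≠ 1 := by
    refine ⟨⟨a0, hAK ha0⟩, mem_subgroupOf.2 ha0, fun h => hn0 ?_⟩
    rw [show a0 = 1 from congrArg Subtype.val h, mul_one, one_mul]
  have hex : ∀ a ha, ∃ b ∈ AK, b ∉ L a ha := fun a ha => SetLike.not_le_iff_exists.1 fun hle => by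
    have h16 := (card_le_of_le hle).trans (card_line_le hAsq hφA hq ha)
    rw [hcard] at h16
    omega
  obtain ⟨a2, ha2, ha21⟩ := hex a1 ha1
  have ha3 : a1 * a2 ∈ AK := mul_mem ha1 ha2
  have h31 : a1 * a2 ∉ L a1 ha1 := fun h => ha21 (by
    have := mul_mem (inv_mem (self_mem_line hAsq hφA hq ha1)) h
    simpa using this)
  have h32 : a1 * a2 ∉ L a2 ha2 := fun h => ha11 (line_inf hAsq hφA hq ha1 ha2 ha21
    (self_mem_line hAsq hφA hq ha1) (by
    have := mul_mem h (inv_mem (self_mem_line hAsq hφA hq ha2))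
    simpa using this))
  have hcentral : ∀ p ∈ K1 _ ha3, ∀ w ∈ L _ ha3, p * w = w * p := by
    intro p hp w hw
    have hc1 : ∀ q ∈ L a1 ha1, Commute p q := fun q hq' =>
      (hcomm1 a1 ha1 _ ha3 h31 q (subset_normalClosure hq') p hp).symm
    have hc2 : ∀ q ∈ L a2 ha2, Commute p q := fun q hq' =>
      (hcomm1 a2 ha2 _ ha3 h32 q (subset_normalClosure hq') p hp).symm
    have hs1 := self_mem_line hAsq hφA hq ha1
    have hs2 := self_mem_line hAsq hφA hq ha2
    have h1 : Commute p (a1 * a2) := (hc1 _ hs1).mul_right (hc2 _ hs2)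
    have h2 : Commute p (φ (a1 * a2)) := by
      rw [map_mul]
      exact (hc1 _ (phi_mem_line hAsq hφA hq ha1 hs1)).mul_right (hc2 _ (phi_mem_line hAsq hφA hq ha2 hs2))
    rcases hw with rfl | rfl | rfl | rfl
    · exact (Commute.one_right p).eq
    · exact h1.eq
    · exact h2.eq
    · exact (h1.mul_right h2).eq
  haveI hN1 : (K1 _ ha3).Normal := normalClosure_normal
  have hab : K1 _ ha3 ≤ centralizer (K1 _ ha3 : Set ↥K) :=
    normalClosure_le_normal (N := centralizer (K1 _ ha3 : Set ↥K)) fun w hw =>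
      mem_centralizer_iff.2 fun p hp => hcentral p hp w hw
  have hcc : ∀ p ∈ K1 _ ha3, ∀ q ∈ K1 _ ha3, p * q = q * p := fun p hp q hq' =>
    mem_centralizer_iff.1 (hab hq') p hp
  let N2 : Subgroup ↥K :=
    { carrier := {p | p ∈ K1 _ ha3 ∧ p * p = 1}
      one_mem' := ⟨one_mem _, one_mul 1⟩
      mul_mem' := fun {p q} hp hq' => ⟨mul_mem hp.1 hq'.1, by
        rw [mul_assoc, ← mul_assoc q, hcc q hq'.1 p hp.1, mul_assoc p q q, hq'.2, mul_one, hp.2]⟩
      inv_mem' := fun {p} hp => ⟨inv_mem hp.1, by rw [← mul_inv_rev, hp.2, inv_one]⟩ }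
  have hN2 : N2.Normal := ⟨fun p hp g => ⟨hN1.conj_mem p hp.1 g, by
    rw [show g * p * g⁻¹ * (g * p * g⁻¹) = g * (p * p) * g⁻¹ by group, hp.2, mul_one, mul_inv_cancel]⟩⟩
  have hN2p : IsPGroup 2 N2 := fun p => ⟨1, Subtype.ext (by
    rw [SubgroupClass.coe_pow, pow_one, pow_two]; exact p.2.2)⟩
  have hmem : a1 * a2 ∈ N2 := ⟨subset_normalClosure (self_mem_line hAsq hφA hq ha3), hAsq _ ha3⟩
  have h := CfsgLib.PCore.le_pCore hN2 hN2p hmem
  rw [hO2, mem_bot] at h
  exact h31 (h ▸ one_mem _)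

end Frame

end CfsgLib.LThreeFour
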