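import Cfsg.Agent.Lib.LThreeFour.Action

/-!
# Transitivity of `N(A)` on `A#`

If an element of `A ∖ Z` is fused into `Z`, then `N(A)` is transitive on the involutions of `A`.  An element of
`N(A)` fixing an element of `Z#` is determined on `A` by its value at a point outside `Z`.
-/

set_option autoImplicit false
set_option linter.unusedSectionVars false
set_option linter.style.haveILetI false

namespace CfsgLib.LThreeFour

open Subgroup CfsgLib.InvCharThree CfsgLib.InvCharPSLThree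
open scoped IsMulCommutative

variable {F : Type*} [Field F] [Fintype F] [hF : Fact (Fintype.card F = 4)]
variable {H : Type*} [Group H] [Finite H] {S : Sylow 2 H} (f : Frame F (S : Subgroup H))

namespace Frame

theorem add_self_A (v : Additive ↥f.A) : v + v = 0 :=
  Additive.toMul.injective (Subtype.ext (f.sq_A (Additive.toMul v).2))

theorem eq_of_add_A {v w : Additive ↥f.A} (h : v + w = 0) : v = w := by
  rw [eq_neg_of_add_eq_zero_left h, neg_eq_of_add_eq_zero_left (f.add_self_A w)]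

/-- The endomorphism preserves `Z`. -/
theorem omega_addZ {M : AddMonoid.End (Additive ↥f.A)}
    (hM : ∀ n, Commute M (f.act n : AddMonoid.End (Additive ↥f.A))) {v : Additive ↥f.A} (hv : v ∈ f.addZ) :
    M v ∈ f.addZ := by
  obtain ⟨s, hsS, hsA⟩ : ∃ s ∈ (S : Subgroup H), s ∉ f.A := SetLike.not_le_iff_exists.1 fun hle => by
    have := card_le_of_le hle
    rw [f.card_A, f.card_S] at this
    omega
  rw [f.mem_addZ]
  by_contra hMv
  set e : ↥(normalizer (f.A : Set H)) := ⟨s, f.A_normal hsS⟩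
  refine hsA (f.mem_A_of_commute (Additive.toMul (M v)).2 hMv hsS ((f.act_fix e (M v)).1 ?_))
  rw [show (f.act e : AddMonoid.End (Additive ↥f.A)) (M v) = M ((f.act e : AddMonoid.End (Additive ↥f.A)) v)
    from (DFunLike.congr_fun (hM e).eq v).symm, (f.act_fix e v).2 (f.Z_central hsS hv)]

theorem omega_not_addZ {M : AddMonoid.End (Additive ↥f.A)} (hq : Quad M)
    (hM : ∀ n, Commute M (f.act n : AddMonoid.End (Additive ↥f.A))) {v : Additive ↥f.A} (hv : v ∉ f.addZ) :
    M v ∉ f.addZ ∧ v + M v ∉ f.addZ := by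
  have h2 : M (M v) = v + M v := f.eq_of_add_A (by rw [add_comm v, ← add_assoc, hq v])
  have h : M v ∉ f.addZ := fun h => hv (by
    have := add_mem (f.omega_addZ hM h) h
    rwa [h2, add_assoc, f.add_self_A, add_zero] at this)
  exact ⟨h, fun h' => h (by
    have := add_mem (f.omega_addZ hM h') h'
    rw [map_add, h2] at this
    rwa [show M v + (v + M v) + (v + M v) = M v + ((v + M v) + (v + M v)) by abel, f.add_self_A,
      add_zero] at this)⟩

/-- `A` is the union of four cosets of `Z`. -/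
theorem coset_cases {M : AddMonoid.End (Additive ↥f.A)} (hq : Quad M)
    (hM : ∀ n, Commute M (f.act n : AddMonoid.End (Additive ↥f.A))) {a : Additive ↥f.A} (ha : a ∉ f.addZ)
    (v : Additive ↥f.A) :
    v ∈ f.addZ ∨ v + a ∈ f.addZ ∨ v + M a ∈ f.addZ ∨ v + (a + M a) ∈ f.addZ := by
  let l : Fin 4 → Additive ↥f.A := ![0, a, M a, a + M a]
  obtain ⟨h1, h2⟩ := f.omega_not_addZ hq hM ha
  have hdiff : ∀ i j, l i + l j ∈ f.addZ → i = j := by
    intro i j
    fin_cases i <;> fin_cases j <;> simp only [l] <;> intro h <;> (try trivial) <;> try rfl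
    all_goals exfalso
    all_goals simp at h
    all_goals first
      | exact ha h
      | exact h1 h
      | exact h2 h
      | (rw [← add_assoc, f.add_self_A, zero_add] at h; exact h1 h)
      | (rw [add_comm a (M a), ← add_assoc, f.add_self_A, zero_add] at h; exact ha h)
      | (rw [add_comm (a + M a), ← add_assoc, f.add_self_A, zero_add] at h; exact h1 h)
      | (rw [add_assoc, f.add_self_A, add_zero] at h; exact ha h)
      | (rw [add_comm a (M a), add_assoc, f.add_self_A, add_zero] at h; exact h1 h)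
      | (rw [add_comm (M a) a] at h; exact h2 h)
      | (rw [add_right_comm, f.add_self_A, zero_add] at h; exact h1 h)
  let φ : ↥f.addZ × Fin 4 → Additive ↥f.A := fun p => (p.1 : Additive ↥f.A) + l p.2
  have hφ : Function.Injective φ := by
    rintro ⟨⟨z, hz⟩, i⟩ ⟨⟨z', hz'⟩, j⟩ h
    have h' : z + l i = z' + l j := h
    have hij : i = j := hdiff i j (by
      have : l i + l j = z + z' := by
        calc l i + l j = z + (z + l i) + l j := by rw [← add_assoc z, f.add_self_A, zero_add]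
          _ = z + z' + (l j + l j) := by rw [h']; abel
          _ = z + z' := by rw [f.add_self_A, add_zero]
      rw [this]
      exact add_mem hz hz')
    subst hij
    exact Prod.ext (Subtype.ext (add_right_cancel h')) rfl
  have hsurj := (hφ.bijective_of_nat_card_le (by
    rw [Nat.card_congr Additive.toMul, f.card_A, Nat.card_prod, f.card_addZ, Nat.card_eq_fintype_card,
      Fintype.card_fin])).2 v
  obtain ⟨⟨⟨z, hz⟩, i⟩, rfl⟩ := hsurj
  have key : z + l i + l i ∈ f.addZ := by rwa [add_assoc, f.add_self_A, add_zero]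
  fin_cases i
  · exact Or.inl (by simpa [l, φ] using key)
  · exact Or.inr (Or.inl key)
  · exact Or.inr (Or.inr (Or.inl key))
  · exact Or.inr (Or.inr (Or.inr key))

/-- `Z` is a line. -/
theorem addZ_cases {M : AddMonoid.End (Additive ↥f.A)} (hq : Quad M)
    (hM : ∀ n, Commute M (f.act n : AddMonoid.End (Additive ↥f.A))) {v u : Additive ↥f.A} (hv : v ∈ f.addZ)
    (hv0 : v ≠ 0) (hu : u ∈ f.addZ) : u = 0 ∨ u = v ∨ u = M v ∨ u = v + M v := by
  classical
  haveI := Fintype.ofFinite ↥f.addZ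
  by_contra! h
  obtain ⟨k0, k1, k2, k3⟩ := h
  have hMv0 : M v ≠ 0 := fun h0 => hv0 (by have := hq v; rwa [h0, map_zero, add_zero, zero_add] at this)
  have hvM : v ≠ M v := fun h0 => hv0 (by
    have := hq v
    rwa [← h0, ← h0, f.add_self_A, zero_add] at this)
  let l : List ↥f.addZ := [0, ⟨v, hv⟩, ⟨M v, f.omega_addZ hM hv⟩,
    ⟨v + M v, add_mem hv (f.omega_addZ hM hv)⟩, ⟨u, hu⟩]
  have hl : l.Nodup := by
    have h1 : v + M v ≠ 0 := fun h0 => hvM (f.eq_of_add_A h0)
    have h2 : v + M v ≠ v := fun h0 => hMv0 (add_eq_left.1 h0)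
    have h3 : v + M v ≠ M v := fun h0 => hv0 (add_eq_right.1 h0)
    simp [l, Subtype.ext_iff, hv0.symm, hMv0.symm, hvM, h1.symm, h2.symm, h3.symm, k0.symm, k1.symm, k2.symm,
      k3.symm]
  have h5 := hl.length_le_card
  rw [← Nat.card_eq_fintype_card, f.card_addZ] at h5
  simp [l] at h5

/-- An element of `N(A)` mapping an element of `Z#` into `Z` normalises `Z`. -/
theorem act_addZ {M : AddMonoid.End (Additive ↥f.A)} (hq : Quad M)
    (hM : ∀ n, Commute M (f.act n : AddMonoid.End (Additive ↥f.A))) {n : ↥(normalizer (f.A : Set H))}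
    {v u : Additive ↥f.A} (hv : v ∈ f.addZ) (hv0 : v ≠ 0)
    (h : (f.act n : AddMonoid.End (Additive ↥f.A)) v ∈ f.addZ) (hu : u ∈ f.addZ) :
    (f.act n : AddMonoid.End (Additive ↥f.A)) u ∈ f.addZ := by
  have hMn : (f.act n : AddMonoid.End (Additive ↥f.A)) (M v) = M ((f.act n : AddMonoid.End (Additive ↥f.A)) v) :=
    (DFunLike.congr_fun (hM n).eq v).symm
  rcases f.addZ_cases hq hM hv hv0 hu with rfl | rfl | rfl | rfl
  · rw [map_zero]; exact zero_mem _
  · exact h
  · rw [hMn]; exact f.omega_addZ hM h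
  · rw [map_add, hMn]; exact add_mem h (f.omega_addZ hM h)

/-- An element of `S` translates a point outside `Z` by any element of `Z`. -/
theorem exists_translate {a d : Additive ↥f.A} (ha : a ∉ f.addZ) (hd : d ∈ f.addZ) :
    ∃ n, (f.act n : AddMonoid.End (Additive ↥f.A)) a = a + d := by
  obtain ⟨y, hy⟩ := f.mem_S.1 (f.A_le (Additive.toMul a).2)
  obtain ⟨w, hw⟩ := f.mem_S.1 (f.A_le (Additive.toMul d).2)
  have hyu : y.u = 0 := f.mem_A.1 (hy.symm ▸ (Additive.toMul a).2)
  have hwZ : w.u = 0 ∧ w.v = 0 := f.mem_Z.1 (hw.symm ▸ hd)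
  have hyv : y.v ≠ 0 := fun h => ha (f.mem_addZ.2 (hy ▸ f.mem_Z.2 ⟨hyu, h⟩))
  refine ⟨⟨f.θ ⟨w.w * y.v⁻¹, 0, 0⟩, f.A_normal (f.θ_mem _)⟩,
    Additive.toMul.injective (Subtype.ext ?_)⟩
  rw [f.act_apply]
  show f.θ _ * ((Additive.toMul a : ↥f.A) : H) * (f.θ _)⁻¹ =
    ((Additive.toMul a : ↥f.A) : H) * ((Additive.toMul d : ↥f.A) : H)
  rw [← hy, ← hw, ← map_inv, ← map_mul, ← map_mul, ← map_mul, conj_coord ⟨w.w * y.v⁻¹, 0, 0⟩ ⟨y, hyu⟩]
  refine congrArg f.θ (Uni.ext ?_ ?_ ?_) <;> simp only [uni_mul_u, uni_mul_v, uni_mul_w]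
  · rw [hyu, hwZ.1, add_zero]
  · rw [hwZ.2, add_zero]
  · rw [hwZ.1, mul_zero, add_zero, mul_comm w.w, mul_inv_cancel_left₀ hyv]

/-- **`N(A)` is transitive on `A#` when `A ∖ Z` is fused into `Z`.** -/
theorem transA (hf : f.FusedA) {x y : H} (hx : x ∈ f.A) (hx1 : x ≠ 1) (hy : y ∈ f.A) (hy1 : y ≠ 1) :
    ∃ n ∈ normalizer (f.A : Set H), n * x * n⁻¹ = y := by
  obtain ⟨M, hq, hM⟩ := f.exists_omega
  obtain ⟨a0, ha0, ha0Z, g, hg⟩ := hf
  obtain ⟨n0, hn0, hn0e⟩ := f.exists_normalizer_conj ha0 (f.Z_le_A hg)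
  set a : Additive ↥f.A := Additive.ofMul ⟨a0, ha0⟩
  set n : ↥(normalizer (f.A : Set H)) := ⟨n0, hn0⟩
  have ha : a ∉ f.addZ := ha0Z
  have hna : (f.act n : AddMonoid.End (Additive ↥f.A)) a ∈ f.addZ := by
    rw [f.mem_addZ, f.act_apply]
    show n0 * a0 * n0⁻¹ ∈ f.Z
    rw [hn0e]
    exact hg
  let r : Additive ↥f.A → Additive ↥f.A → Prop := fun v w =>
    ∃ m, (f.act m : AddMonoid.End (Additive ↥f.A)) v = w
  have hsymm : ∀ {v w}, r v w → r w v := fun {v w} ⟨m, h⟩ => ⟨m⁻¹, by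
    rw [← h, map_inv]
    exact DFunLike.congr_fun (f.act m).inv_mul v⟩
  have htrans : ∀ {v w u}, r v w → r w u → r v u := fun {v w u} ⟨m, h⟩ ⟨k, h'⟩ => ⟨k * m, by
    rw [map_mul, ← h', ← h]
    rfl⟩
  have hstep : ∀ {v w}, v ∉ f.addZ → v + w ∈ f.addZ → r v w := fun {v w} hv hd => by
    obtain ⟨m, hm⟩ := f.exists_translate hv hd
    exact ⟨m, by rw [hm, ← add_assoc, f.add_self_A, zero_add]⟩
  have hZa : ∀ p ∈ f.addZ, p ≠ 0 → r p a := by
    intro p hp hp0
    have hnp : (f.act n : AddMonoid.End (Additive ↥f.A)) p ∉ f.addZ := fun h => by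
      let φ : ↥f.addZ → ↥f.addZ := fun u => ⟨_, f.act_addZ hq hM hp hp0 h u.2⟩
      have hinj : Function.Injective φ := fun u u' e => by
        have e' := congrArg (fun w : ↥f.addZ => ((f.act n)⁻¹ : (AddMonoid.End (Additive ↥f.A))ˣ).val w.1) e
        have h1 : ∀ w, ((f.act n)⁻¹ : (AddMonoid.End (Additive ↥f.A))ˣ).val
            ((f.act n : AddMonoid.End (Additive ↥f.A)) w) = w := fun w => DFunLike.congr_fun (f.act n).inv_mul w
        exact Subtype.ext ((h1 _).symm.trans (e'.trans (h1 _)))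
      obtain ⟨⟨u, hu⟩, hu'⟩ := (Finite.injective_iff_surjective.1 hinj) ⟨_, hna⟩
      have e := congrArg ((f.act n)⁻¹ : (AddMonoid.End (Additive ↥f.A))ˣ).val (congrArg Subtype.val hu')
      refine ha ?_
      have h1 : ∀ w, ((f.act n)⁻¹ : (AddMonoid.End (Additive ↥f.A))ˣ).val
          ((f.act n : AddMonoid.End (Additive ↥f.A)) w) = w := fun w => DFunLike.congr_fun (f.act n).inv_mul w
      rw [← (h1 u).symm.trans (e.trans (h1 a))]
      exact hu
    have h1 : r p (p + a) := htrans ⟨n, rfl⟩ (htrans (hstep (w := (f.act n : AddMonoid.End (Additive ↥f.A)) (p + a))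
      hnp (by rw [map_add, ← add_assoc, f.add_self_A, zero_add]; exact hna)) (hsymm ⟨n, rfl⟩))
    exact htrans h1 (hsymm (hstep ha (by rw [add_comm p, ← add_assoc, f.add_self_A, zero_add]; exact hp)))
  have hline : ∀ q, q ∉ f.addZ → (f.act n : AddMonoid.End (Additive ↥f.A)) q ∈ f.addZ → r q a := fun q hqn hqZ =>
    htrans ⟨n, rfl⟩ (hZa _ hqZ fun h0 => hqn (by
      have h1 : ((f.act n)⁻¹ : (AddMonoid.End (Additive ↥f.A))ˣ).val
          ((f.act n : AddMonoid.End (Additive ↥f.A)) q) = q := DFunLike.congr_fun (f.act n).inv_mul q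
      rw [← h1, h0, map_zero]
      exact zero_mem _))
  have hall : ∀ v, v ≠ 0 → r v a := by
    intro v hv0
    by_cases hv : v ∈ f.addZ
    · exact hZa v hv hv0
    obtain ⟨h1, h2⟩ := f.omega_not_addZ hq hM ha
    have hMa : (f.act n : AddMonoid.End (Additive ↥f.A)) (M a) ∈ f.addZ := by
      rw [show (f.act n : AddMonoid.End (Additive ↥f.A)) (M a) = M ((f.act n : AddMonoid.End (Additive ↥f.A)) a)
        from (DFunLike.congr_fun (hM n).eq a).symm]
      exact f.omega_addZ hM hna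
    rcases f.coset_cases hq hM ha v with h | h | h | h
    · exact absurd h hv
    · exact hstep hv h
    · exact htrans (hstep hv h) (hline _ h1 hMa)
    · exact htrans (hstep hv h) (hline _ h2 (by rw [map_add]; exact add_mem hna hMa))
  have hne : ∀ {w : H} (hw : w ∈ f.A), w ≠ 1 → (Additive.ofMul (⟨w, hw⟩ : ↥f.A)) ≠ 0 := fun {w} hw hw1 h =>
    hw1 (congrArg (fun v => ((Additive.toMul v : ↥f.A) : H)) h)
  obtain ⟨m, hm⟩ := htrans (hall _ (hne hx hx1)) (hsymm (hall _ (hne hy hy1)))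
  exact ⟨m, m.2, (f.act_apply m _).symm.trans (congrArg (fun v => ((Additive.toMul v : ↥f.A) : H)) hm)⟩

end Frame

end CfsgLib.LThreeFour
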