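import Cfsg.Agent.Lib.LThreeFour.Normal
import Cfsg.Agent.Lib.LThreeFour.Trans
import Cfsg.Agent.Lib.LThreeFour.Closed
import Cfsg.Agent.Lib.CoreKill.Applications
import Cfsg.Agent.Lib.PLocal.Constraint
import Cfsg.Agent.S1221

/-!
# Centralisers of involutions when both fours are fused

If `A` and `B` are both fused, all involutions are conjugate into `Z`, their centralisers are 2-constrained
(as `A` and `B` are strongly closed there) and have trivial odd cores, so they normalise `A` and `B`.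
-/

set_option autoImplicit false
set_option linter.unusedSectionVars false
set_option linter.style.haveILetI false

namespace CfsgLib.LThreeFour

open Subgroup CfsgLib.InvCharThree
open scoped Pointwise IsMulCommutative

universe u v

variable {F : Type v} [Field F] [Fintype F] [hF : Fact (Fintype.card F = 4)]
variable {H : Type u} [Group H] [Finite H] {S : Sylow 2 H} (f : Frame F (S : Subgroup H))

local instance : Fact (Nat.Prime 2) := ⟨Nat.prime_two⟩

namespace Frame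

include f

/-- The frame of a conjugate Sylow subgroup. -/
def conjFrame (g : H) : Frame F ((g • S : Sylow 2 H) : Subgroup H) where
  θ := (MulAut.conj g).toMonoidHom.comp f.θ
  inj := (MulAut.conj g).injective.comp f.inj
  range_eq := by
    rw [MonoidHom.range_comp, f.range_eq, Sylow.coe_subgroup_smul]
    rfl

theorem mem_conjFrame_Z {g z : H} (hz : z ∈ f.Z) : g * z * g⁻¹ ∈ (f.conjFrame g).Z := by
  obtain ⟨y, rfl⟩ := f.mem_S.1 (f.A_le (f.Z_le_A hz))
  exact (f.conjFrame g).mem_Z.2 (f.mem_Z.1 hz)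

/-- The frame inside a subgroup containing `S`. -/
def subFrame (C : Subgroup H) (hle : (S : Subgroup H) ≤ C) :
    Frame F ((S.subtype hle : Sylow 2 C) : Subgroup C) where
  θ := f.θ.codRestrict C fun y => hle (f.θ_mem y)
  inj := fun a b h => f.inj (congrArg Subtype.val h)
  range_eq := by
    ext x
    rw [Sylow.coe_subtype, mem_subgroupOf, MonoidHom.mem_range, f.mem_S]
    exact ⟨fun ⟨y, hy⟩ => ⟨y, congrArg Subtype.val hy⟩, fun ⟨y, hy⟩ => ⟨y, Subtype.ext hy⟩⟩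

theorem mem_subFrame_A {C : Subgroup H} {hle : (S : Subgroup H) ≤ C} {x : C} :
    x ∈ (f.subFrame C hle).A ↔ (x : H) ∈ f.A :=
  ⟨fun ⟨y, hy, e⟩ => ⟨y, hy, congrArg Subtype.val e⟩, fun ⟨y, hy, e⟩ => ⟨y, hy, Subtype.ext e⟩⟩

theorem mem_subFrame_B {C : Subgroup H} {hle : (S : Subgroup H) ≤ C} {x : C} :
    x ∈ (f.subFrame C hle).B ↔ (x : H) ∈ f.B :=
  ⟨fun ⟨y, hy, e⟩ => ⟨y, hy, congrArg Subtype.val e⟩, fun ⟨y, hy, e⟩ => ⟨y, hy, Subtype.ext e⟩⟩

theorem mem_subFrame_Z {C : Subgroup H} {hle : (S : Subgroup H) ≤ C} {x : C} :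
    x ∈ (f.subFrame C hle).Z ↔ (x : H) ∈ f.Z := by
  rw [Z, Z, mem_inf, mem_inf, f.mem_subFrame_A, f.mem_subFrame_B]

/-- The frame modulo a normal subgroup of odd order. -/
def quot (N : Subgroup H) [N.Normal] (hN : ∀ x ∈ (S : Subgroup H), x ∈ N → x = 1) :
    Frame F ((S.mapSurjective (QuotientGroup.mk'_surjective N) : Sylow 2 (H ⧸ N)) : Subgroup (H ⧸ N)) :=
  f.map (QuotientGroup.mk' N) fun x hx h => hN x hx ((QuotientGroup.eq_one_iff x).1 h)

/-- Fusion modulo a normal subgroup of odd order comes from fusion. -/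
theorem quot_not_fused (N : Subgroup H) [N.Normal] (hN : ∀ x ∈ (S : Subgroup H), x ∈ N → x = 1)
    (hodd : Odd (Nat.card N)) (hno : ¬ f.FusedA) : ¬ (f.quot N hN).FusedA := by
  have hA : (f.quot N hN).A = f.A.map (QuotientGroup.mk' N) := f.map_A _ _
  have hB : (f.quot N hN).B = f.B.map (QuotientGroup.mk' N) := f.map_B _ _
  rintro ⟨a', ha', haZ, g', hg'⟩
  rw [hA] at ha'
  obtain ⟨a, ha, rfl⟩ := ha'
  obtain ⟨g, rfl⟩ := QuotientGroup.mk'_surjective N g'
  have haZ' : a ∉ f.Z := fun h => haZ (by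
    rw [Z, mem_inf, hA, hB]
    exact ⟨mem_map_of_mem _ ha, mem_map_of_mem _ (f.Z_le_B h)⟩)
  have ha1 : a ≠ 1 := fun h => haZ' (h ▸ one_mem _)
  rw [← map_inv, ← map_mul, ← map_mul, Z, mem_inf, hA, hB] at hg'
  obtain ⟨⟨z, hzA, hz⟩, z', hz'B, hz'⟩ := hg'
  have hzB : z ∈ f.B := by
    have h1 := QuotientGroup.eq.1 (hz.trans hz'.symm)
    rw [inv_mul_eq_one.1 (hN _ (mul_mem (inv_mem (f.A_le hzA)) (f.B_le hz'B)) h1)]
    exact hz'B
  set x := g * a * g⁻¹ with hx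
  have hxo : x * z⁻¹ ∈ N := by
    rw [← QuotientGroup.eq_one_iff]
    show QuotientGroup.mk' N (x * z⁻¹) = 1
    rw [map_mul, map_inv, hz, mul_inv_cancel]
  rw [f.inv_A hzA] at hxo
  have hx2 : x * x = 1 := by
    calc x * x = g * (a * a) * g⁻¹ := by rw [hx]; group
      _ = 1 := by rw [f.sq_A ha, mul_one, mul_inv_cancel]
  have hz2 : z * z = 1 := f.sq_A hzA
  set o := x * z with ho
  obtain ⟨k, hk⟩ : Odd (orderOf o) :=
    hodd.of_dvd_nat (Subgroup.orderOf_dvd_natCard N hxo)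
  have hzo : z * o = o⁻¹ * z := by
    rw [ho, mul_inv_rev, inv_eq_of_mul_eq_one_right hz2, inv_eq_of_mul_eq_one_right hx2]
    simp [mul_assoc]
  have hpow : ∀ n : ℕ, z * o ^ n = (o ^ n)⁻¹ * z := by
    intro n
    induction n with
    | zero => simp
    | succ n ih => rw [pow_succ, ← mul_assoc, ih, mul_assoc, hzo, ← mul_assoc, ← mul_inv_rev, ← pow_succ',
        ← pow_succ]
  set d := o ^ (k + 1) with hd
  have hdz : d * z * d⁻¹ = x := by
    have h1 : z * d⁻¹ = d * z := by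
      calc z * d⁻¹ = d * (d⁻¹ * z) * d⁻¹ := by group
        _ = d * z := by rw [← hpow, mul_assoc, mul_assoc, mul_inv_cancel, mul_one]
    calc d * z * d⁻¹ = d * d * z := by rw [mul_assoc, h1, ← mul_assoc]
      _ = o * z := by
        rw [hd, ← pow_add, show k + 1 + (k + 1) = orderOf o + 1 by omega, pow_succ, pow_orderOf_eq_one, one_mul]
      _ = x := by rw [ho, mul_assoc, hz2, mul_one]
  refine hno ⟨a, ha, haZ', d⁻¹ * g, ?_⟩
  rw [show d⁻¹ * g * a * (d⁻¹ * g)⁻¹ = d⁻¹ * x * d by rw [hx]; group, ← hdz,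
    show d⁻¹ * (d * z * d⁻¹) * d = z by group]
  exact ⟨hzA, hzB⟩

/-- Without fusion, `A` and `B` are normal in a core-free group. -/
theorem normal_of_not_fused (hSC : SCStructure.{u}) (hO : Cfsg.oddCore H = ⊥) (hA : ¬ f.FusedA)
    (hB : ¬ f.swap.FusedA) : f.A.Normal ∧ f.B.Normal := by
  constructor
  · refine f.normal_of_closed hSC hO ?_
    have := f.swap.B_closed hB
    rwa [f.swap_B] at this
  · have h := f.swap.normal_of_closed hSC hO (by rw [f.swap_A]; exact f.B_closed hA)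
    rwa [f.swap_A] at h

theorem mem_A_of_centralizer {x : H} (hxS : x ∈ (S : Subgroup H)) (hx : x ∈ centralizer (f.A : Set H)) :
    x ∈ f.A := by
  obtain ⟨a, ha, haZ⟩ : ∃ a ∈ f.A, a ∉ f.Z := SetLike.not_le_iff_exists.1 fun hle => by
    have := card_le_of_le hle
    rw [f.card_A, f.card_Z] at this
    omega
  exact f.mem_A_of_commute ha haZ hxS (mem_centralizer_iff.1 hx a ha).symm

/-- Without fusion, the group is 2-constrained. -/
theorem constrained_of_not_fused (hSC : SCStructure.{u}) (hA : ¬ f.FusedA) (hB : ¬ f.swap.FusedA) :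
    Cfsg.IsPConstrained 2 H := by
  haveI : (Cfsg.pPrimeCore 2 H).Normal := Cfsg.pPrimeCore_normal 2 H
  have hodd : Odd (Nat.card (Cfsg.pPrimeCore 2 H)) :=
    Nat.coprime_two_right.1 CfsgLib.PCore.pPrimeCore_coprime
  have hN : ∀ x ∈ (S : Subgroup H), x ∈ Cfsg.pPrimeCore 2 H → x = 1 := fun x hx hxO =>
    (Subgroup.eq_bot_iff_forall _).1 (CfsgLib.PCore.inf_eq_bot_of_isPGroup_coprime S.isPGroup'
      CfsgLib.PCore.pPrimeCore_coprime) x ⟨hx, hxO⟩
  have hO : Cfsg.oddCore (H ⧸ Cfsg.pPrimeCore 2 H) = ⊥ := CfsgLib.PCore.pPrimeCore_quotient_pPrimeCore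
  have hB' : ¬ (f.quot _ hN).swap.FusedA := f.swap.quot_not_fused _ hN hodd hB
  obtain ⟨hnA, -⟩ := (f.quot _ hN).normal_of_not_fused hSC hO (f.quot_not_fused _ hN hodd hA) hB'
  rw [CfsgLib.PLocal.isPConstrained_iff]
  set q := f.quot _ hN
  haveI := hnA
  have hle : q.A ≤ Cfsg.pCore 2 (H ⧸ Cfsg.pPrimeCore 2 H) :=
    CfsgLib.PCore.le_pCore hnA (IsPGroup.of_card (n := 4) (by rw [q.card_A]; rfl))
  have hcent : centralizer (q.A : Set (H ⧸ Cfsg.pPrimeCore 2 H)) = q.A :=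
    centralizer_eq_of_normal hO _ q.A q.instCommA fun x hx hxc => q.mem_A_of_centralizer hx hxc
  exact ((centralizer_le hle).trans hcent.le).trans hle

theorem Z_le_centralizer {z : H} (hz : z ∈ f.Z) : (S : Subgroup H) ≤ centralizer ({z} : Set H) := fun _ hx =>
  mem_centralizer_singleton_iff.2 (f.Z_central hx hz)

theorem subFrame_not_fused {z : H} (hz : z ∈ f.Z) (hz1 : z ≠ 1) :
    ¬ (f.subFrame _ (f.Z_le_centralizer hz)).FusedA := by
  rintro ⟨a, ha, haZ, g, hg⟩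
  exact f.not_fused_cent (f.mem_subFrame_A.1 ha) (fun h => haZ (f.mem_subFrame_Z.2 h)) hz hz1 g.2
    (f.mem_subFrame_Z.1 hg)

theorem subFrame_swap_not_fused {z : H} (hz : z ∈ f.Z) (hz1 : z ≠ 1) :
    ¬ (f.subFrame _ (f.Z_le_centralizer hz)).swap.FusedA :=
  f.swap.subFrame_not_fused (f.swap_Z.symm ▸ hz) hz1

theorem constrained_centralizer (hSC : SCStructure.{u}) {z : H} (hz : z ∈ f.Z) (hz1 : z ≠ 1) :
    Cfsg.IsPConstrained 2 ↥(centralizer ({z} : Set H)) :=
  (f.subFrame _ (f.Z_le_centralizer hz)).constrained_of_not_fused hSC (f.subFrame_not_fused hz hz1)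
    (f.subFrame_swap_not_fused hz hz1)

/-- Every involution is conjugate into `Z`. -/
theorem exists_conj_Z (hA : f.FusedA) (hB : f.swap.FusedA) {t : H} (ht : t * t = 1) (ht1 : t ≠ 1) :
    ∃ g : H, g * t * g⁻¹ ∈ f.Z ∧ g * t * g⁻¹ ≠ 1 := by
  suffices h : ∃ g : H, g * t * g⁻¹ ∈ f.Z by
    obtain ⟨g, hg⟩ := h
    exact ⟨g, hg, fun e => ht1 (conj_eq_one_iff.1 e)⟩
  have hz : IsPGroup 2 (zpowers t) :=
    IsPGroup.of_card (n := 1) (by
      rw [Nat.card_zpowers, orderOf_eq_prime (by rw [pow_two]; exact ht) ht1, pow_one])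
  obtain ⟨P, hP⟩ := hz.exists_le_sylow
  obtain ⟨g, hg⟩ := MulAction.exists_smul_eq H P S
  have hgS : g * t * g⁻¹ ∈ (S : Subgroup H) := by
    rw [← hg, Sylow.coe_subgroup_smul, CfsgLib.CIT.FourRecog.mem_conj]
    simpa [mul_assoc] using hP (mem_zpowers t)
  have h2 : g * t * g⁻¹ * (g * t * g⁻¹) = 1 := by
    calc g * t * g⁻¹ * (g * t * g⁻¹) = g * (t * t) * g⁻¹ := by group
      _ = 1 := by rw [ht, mul_one, mul_inv_cancel]
  have h1 : g * t * g⁻¹ ≠ 1 := fun e => ht1 (conj_eq_one_iff.1 e)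
  obtain ⟨w, hw, hw1⟩ : ∃ w ∈ f.Z, w ≠ 1 := (f.Z.ne_bot_iff_exists_ne_one.1 fun e => by
    have h4 := f.card_Z
    rw [e, card_bot] at h4
    omega).elim fun w hw => ⟨w, w.2, fun e => hw (Subtype.ext e)⟩
  rcases f.invol hgS h2 with h | h
  · obtain ⟨n, -, hn⟩ := f.transA hA h h1 (f.Z_le_A hw) hw1
    refine ⟨n * g, ?_⟩
    rw [show n * g * t * (n * g)⁻¹ = n * (g * t * g⁻¹) * n⁻¹ by group, hn]
    exact hw
  · obtain ⟨n, -, hn⟩ := f.swap.transA hB (f.swap_A.symm ▸ h) h1 (f.swap_A.symm ▸ f.Z_le_B hw) hw1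
    refine ⟨n * g, ?_⟩
    rw [show n * g * t * (n * g)⁻¹ = n * (g * t * g⁻¹) * n⁻¹ by group, hn]
    exact hw

variable (hSC : SCStructure.{u}) (hO : Cfsg.oddCore H = ⊥) (hA : f.FusedA) (hB : f.swap.FusedA)

include hSC hO hA hB

theorem cores_eq_bot {t : H} (ht : orderOf t = 2) : Cfsg.centralizerPPrimeCore 2 t = ⊥ := by
  refine CfsgLib.CoreKill.cores_eq_bot_of_normal (fun G _ _ K hK => Cfsg.Agent.S1221.result K hK)
    (fun t ht => ?_) hO S (f.A.subgroupOf (S : Subgroup H)) (normal_subgroupOf_iff_le_normalizer f.A_le |>.2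
      f.A_normal) ?_ ?_ t ht
  · obtain ⟨g, hg, hg1⟩ := f.exists_conj_Z hA hB
      (by rw [← pow_two, ← ht, pow_orderOf_eq_one]) (fun e => by rw [e, orderOf_one] at ht; omega)
    have h := (f.conjFrame g⁻¹).constrained_centralizer hSC (f.mem_conjFrame_Z (g := g⁻¹) hg)
      (by simpa [mul_assoc] using fun e : t = 1 => hg1 (by simp [e]))
    have e : g⁻¹ * (g * t * g⁻¹) * g⁻¹⁻¹ = t := by group
    rwa [e] at h
  · exact ⟨⟨fun a b => Subtype.ext (Subtype.ext (f.comm_A (mem_subgroupOf.1 a.2) (mem_subgroupOf.1 b.2)))⟩⟩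
  · intro h
    have := h ⊤ ⟨⟨fun a b => Subtype.ext (Subtype.ext (Subtype.ext
      (f.comm_A (mem_subgroupOf.1 a.1.2) (mem_subgroupOf.1 b.1.2))))⟩⟩
      (fun a _ => Subtype.ext (Subtype.ext (by
        rw [pow_two]
        exact f.sq_A (mem_subgroupOf.1 a.2))))
    rw [card_top, Nat.card_congr (subgroupOfEquivOfLe f.A_le).toEquiv, f.card_A] at this
    omega

/-- The centraliser of an element of `Z#` normalises `A` and `B`. -/
theorem centralizer_le_normalizer {z : H} (hz : z ∈ f.Z) (hz1 : z ≠ 1) :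
    centralizer ({z} : Set H) ≤ normalizer (f.A : Set H) ⊓ normalizer (f.B : Set H) := by
  set C := centralizer ({z} : Set H) with hC
  have hO' : Cfsg.oddCore ↥C = ⊥ := (map_eq_bot_iff_of_injective _ C.subtype_injective).1
    (f.cores_eq_bot hSC hO hA hB (orderOf_eq_prime (by rw [pow_two]; exact f.sq_A (f.Z_le_A hz)) hz1))
  obtain ⟨hnA, hnB⟩ := (f.subFrame _ (f.Z_le_centralizer hz)).normal_of_not_fused hSC hO'
    (f.subFrame_not_fused hz hz1) (f.subFrame_swap_not_fused hz hz1)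
  intro c hc
  have key : ∀ (d : H), d ∈ C → ∀ x, (x ∈ f.A → d * x * d⁻¹ ∈ f.A) ∧ (x ∈ f.B → d * x * d⁻¹ ∈ f.B) :=
    fun d hd x => ⟨fun hx => f.mem_subFrame_A.1 (hnA.conj_mem
        ⟨x, f.Z_le_centralizer hz (f.A_le hx)⟩ (f.mem_subFrame_A.2 hx) ⟨d, hd⟩),
      fun hx => f.mem_subFrame_B.1 (hnB.conj_mem
        ⟨x, f.Z_le_centralizer hz (f.B_le hx)⟩ (f.mem_subFrame_B.2 hx) ⟨d, hd⟩)⟩
  exact ⟨mem_normalizer_iff.2 fun x => ⟨(key c hc x).1, fun h => by
      simpa [mul_assoc] using (key c⁻¹ (inv_mem hc) _).1 h⟩,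
    mem_normalizer_iff.2 fun x => ⟨(key c hc x).2, fun h => by
      simpa [mul_assoc] using (key c⁻¹ (inv_mem hc) _).2 h⟩⟩

end Frame

end CfsgLib.LThreeFour
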