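import Cfsg.Agent.Lib.LThreeFour.Model
import Cfsg.Agent.Lib.CIT.FourRecog
import Cfsg.Prelude.Def_TwoFusion

/-!
# Fusion in a group with a Sylow 2-subgroup of `PSL₃(4)` type

`A` and `B` are never conjugate, so each is weakly closed and its normaliser controls fusion in it.  If no element
of `A` outside `Z` is conjugate into `Z`, then `B` is strongly closed.
-/

set_option autoImplicit false
set_option linter.unusedSectionVars false
set_option linter.style.haveILetI false

namespace CfsgLib.LThreeFour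

open Subgroup CfsgLib.InvCharThree
open CfsgLib.CIT.FourRecog (mem_conj conj_eq_self_iff card_conj)
open scoped Pointwise

variable {F : Type*} [Field F] [Fintype F] [hF : Fact (Fintype.card F = 4)]
variable {H : Type*} [Group H] [Finite H] {S : Sylow 2 H} (f : Frame F (S : Subgroup H))

include f

local instance : Fact (Nat.Prime 2) := ⟨Nat.prime_two⟩

theorem conjH_mul (g g' : H) (K : Subgroup H) :
    MulAut.conj (g * g') • K = MulAut.conj g • MulAut.conj g' • K := by rw [map_mul, mul_smul]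

namespace Frame

/-- A 2-element normalising `S` lies in `S`. -/
theorem mem_sylow {x : H} {a : ℕ} (hx : x ^ 2 ^ a = 1) (hn : x ∈ normalizer ((S : Subgroup H) : Set H)) :
    x ∈ (S : Subgroup H) := by
  have hz : IsPGroup 2 (zpowers x) := fun y => by
    obtain ⟨i, hi⟩ := mem_zpowers_iff.1 y.2
    refine ⟨a, Subtype.ext ?_⟩
    rw [SubgroupClass.coe_pow, ← hi, ← zpow_natCast, ← zpow_mul, mul_comm, zpow_mul, zpow_natCast, hx,
      one_zpow, OneMemClass.coe_one]
  have := S.is_maximal' (hz.to_sup_of_normal_right' S.isPGroup' (zpowers_le.2 hn)) le_sup_right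
  exact this ▸ mem_sup_left (mem_zpowers x)

/-- An elementary abelian subgroup of order 16 of `S`. -/
theorem conj_cases {g : H} (hg : MulAut.conj g • f.A ≤ (S : Subgroup H)) :
    MulAut.conj g • f.A = f.A ∨ MulAut.conj g • f.A = f.B :=
  f.eq_A_or_B hg (fun x hx => conj_eq_one_iff.1 (by
    have h := f.sq_A (mem_conj.1 hx)
    calc g⁻¹ * (x * x) * g⁻¹⁻¹ = g⁻¹ * x * g * (g⁻¹ * x * g) := by group
      _ = 1 := h)) (by rw [card_conj, f.card_A])

/-- `A` is not conjugate to `B`. -/
theorem A_conj_ne_B (g : H) : MulAut.conj g • f.A ≠ f.B := by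
  intro hg
  have hBnS : MulAut.conj g • (S : Subgroup H) ≤ normalizer (f.B : Set H) := fun x hx => by
    refine conj_eq_self_iff.1 ?_
    have hx' := mem_conj.1 hx
    rw [← hg, ← conjH_mul f, show x * g = g * (g⁻¹ * x * g) by group, conjH_mul f,
      conj_eq_self_iff.2 (f.A_normal hx')]
  set N := normalizer (f.B : Set H) with hN
  let P : Sylow 2 N := S.subtype f.B_normal
  let Q : Sylow 2 N := (MulAut.conj g • S).subtype (by exact hBnS)
  obtain ⟨n, hn⟩ := MulAction.exists_smul_eq N Q P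
  set m : H := (n : H) * g with hm
  have hmA : MulAut.conj m • f.A = f.B := by rw [hm, conjH_mul f, hg, conj_eq_self_iff.2 n.2]
  have hmS : MulAut.conj m • (S : Subgroup H) = (S : Subgroup H) := by
    have hle : MulAut.conj m • (S : Subgroup H) ≤ N := by
      rintro x hx
      rw [hm, conjH_mul f, mem_conj] at hx
      have := N.mul_mem (N.mul_mem n.2 (hBnS hx)) (N.inv_mem n.2)
      simpa [mul_assoc] using this
    refine le_antisymm (fun x hx => ?_) (fun x hx => ?_)
    · have h1 := SetLike.ext_iff.1 (congrArg Sylow.toSubgroup hn) ⟨x, hle hx⟩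
      rw [Sylow.coe_subgroup_smul, mem_pointwise_smul_iff_inv_smul_mem, ← map_inv, MulAut.smul_def,
        MulAut.conj_apply, inv_inv] at h1
      refine h1.1 ?_
      rw [hm, conjH_mul f, mem_conj] at hx
      exact hx
    · have h1 := SetLike.ext_iff.1 (congrArg Sylow.toSubgroup hn) ⟨x, f.B_normal hx⟩
      rw [Sylow.coe_subgroup_smul, mem_pointwise_smul_iff_inv_smul_mem, ← map_inv, MulAut.smul_def,
        MulAut.conj_apply, inv_inv] at h1
      rw [hm, conjH_mul f, mem_conj]
      exact h1.2 hx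
  have hmn : m ∈ normalizer ((S : Subgroup H) : Set H) := conj_eq_self_iff.1 hmS
  have hB : MulAut.conj m • f.B = f.A := by
    have hle : MulAut.conj m • f.B ≤ (S : Subgroup H) := fun x hx => by
      rw [← hmS, mem_conj]
      exact f.B_le (mem_conj.1 hx)
    have hle' : MulAut.conj m • f.swap.A ≤ (S : Subgroup H) := by rwa [f.swap_A]
    have h := f.swap.conj_cases hle'
    rw [f.swap_A, f.swap_B] at h
    refine h.resolve_left fun e => f.A_ne_B ?_
    exact MulAction.injective (MulAut.conj m) (hmA.trans e.symm)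
  obtain ⟨a, b, hb, hab⟩ := Nat.exists_eq_two_pow_mul_odd (orderOf_pos m).ne'
  have hsw : MulAut.conj (m ^ b) • f.A = f.B := by
    obtain ⟨j, rfl⟩ := hb
    have h2 : ∀ i : ℕ, MulAut.conj (m ^ (2 * i)) • f.A = f.A := by
      intro i
      induction i with
      | zero => simp
      | succ i ih =>
        rw [show 2 * (i + 1) = 1 + (1 + 2 * i) by omega, pow_add, pow_add, conjH_mul f, conjH_mul f, ih,
          pow_one, hmA, hB]
    rw [pow_succ', conjH_mul f, h2, hmA]
  have hmem : m ^ b ∈ (S : Subgroup H) :=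
    mem_sylow f (a := a) (by rw [← pow_mul, mul_comm, ← hab, pow_orderOf_eq_one]) (pow_mem hmn b)
  rw [conj_eq_self_iff.2 (f.A_normal hmem)] at hsw
  exact f.A_ne_B hsw

theorem conj_eq_A {g : H} (hg : MulAut.conj g • f.A ≤ (S : Subgroup H)) : MulAut.conj g • f.A = f.A :=
  (f.conj_cases hg).resolve_right (f.A_conj_ne_B g)

/-- A 2-subgroup contains at most one conjugate of `A`. -/
theorem conj_unique {Q : Subgroup H} (hQ : IsPGroup 2 Q) {g g' : H} (hg : MulAut.conj g • f.A ≤ Q)
    (hg' : MulAut.conj g' • f.A ≤ Q) : MulAut.conj g • f.A = MulAut.conj g' • f.A := by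
  obtain ⟨P, hP⟩ := hQ.exists_le_sylow
  obtain ⟨c, rfl⟩ := MulAction.exists_smul_eq H S P
  rw [Sylow.coe_subgroup_smul] at hP
  have key : ∀ x, MulAut.conj x • f.A ≤ Q → MulAut.conj x • f.A = MulAut.conj c • f.A := fun x hx => by
    have h1 : MulAut.conj (c⁻¹ * x) • f.A = f.A := f.conj_eq_A (by
      rw [conjH_mul f, map_inv, Subgroup.pointwise_smul_subset_iff, inv_inv]
      exact hx.trans hP)
    conv_rhs => rw [← h1, ← conjH_mul f, mul_inv_cancel_left]
  rw [key g hg, key g' hg']

/-- The normaliser of `A` controls fusion in `A`. -/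
theorem exists_normalizer_conj {x g : H} (hx : x ∈ f.A) (hgx : g * x * g⁻¹ ∈ f.A) :
    ∃ n ∈ normalizer (f.A : Set H), n * x * n⁻¹ = g * x * g⁻¹ := by
  set y := g * x * g⁻¹ with hy
  set C := centralizer ({y} : Set H) with hC
  have hAC : f.A ≤ C := fun a ha => mem_centralizer_singleton_iff.2 (f.comm_A ha hgx)
  have hgA : MulAut.conj g • f.A ≤ C := fun a ha => mem_centralizer_singleton_iff.2 (by
    have h := f.comm_A (mem_conj.1 ha) hx
    calc a * y = g * (g⁻¹ * a * g * x) * g⁻¹ := by rw [hy]; group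
      _ = g * (x * (g⁻¹ * a * g)) * g⁻¹ := by rw [h]
      _ = y * a := by rw [hy]; group)
  have hp : ∀ {K : Subgroup H}, Nat.card K = 16 → IsPGroup 2 K := fun h =>
    IsPGroup.of_card (n := 4) (by rw [h]; norm_num)
  obtain ⟨T, hT⟩ := ((hp f.card_A).comap_of_injective C.subtype C.subtype_injective).exists_le_sylow
  obtain ⟨T', hT'⟩ := ((hp (by rw [card_conj, f.card_A] : Nat.card ↥(MulAut.conj g • f.A) = 16)
    ).comap_of_injective C.subtype C.subtype_injective).exists_le_sylow
  obtain ⟨c, hc⟩ := MulAction.exists_smul_eq C T' T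
  have hle : MulAut.conj ((c : H) * g) • f.A ≤ (T : Subgroup C).map C.subtype := fun a ha => by
    rw [conjH_mul f, mem_conj] at ha
    have haC : a ∈ C := by
      have := C.mul_mem (C.mul_mem c.2 (hgA ha)) (C.inv_mem c.2)
      simpa [mul_assoc] using this
    refine ⟨⟨a, haC⟩, ?_, rfl⟩
    rw [SetLike.mem_coe, ← hc, Sylow.coe_subgroup_smul, mem_pointwise_smul_iff_inv_smul_mem, ← map_inv,
      MulAut.smul_def, MulAut.conj_apply, inv_inv]
    exact hT' ha
  have hle1 : MulAut.conj (1 : H) • f.A ≤ (T : Subgroup C).map C.subtype := by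
    rw [map_one, one_smul]
    exact fun a ha => ⟨⟨a, hAC ha⟩, hT ha, rfl⟩
  have h := f.conj_unique (T.isPGroup'.map C.subtype) hle hle1
  rw [map_one, one_smul] at h
  refine ⟨(c : H) * g, conj_eq_self_iff.1 h, ?_⟩
  have hcy := mem_centralizer_singleton_iff.1 c.2
  calc (c : H) * g * x * ((c : H) * g)⁻¹ = (c : H) * y * (c : H)⁻¹ := by rw [hy]; group
    _ = y := by rw [hcy, mul_inv_cancel_right]

/-- An element of `A` outside `Z` is conjugate into `Z`. -/
def FusedA : Prop := ∃ a ∈ f.A, a ∉ f.Z ∧ ∃ g : H, g * a * g⁻¹ ∈ f.Z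

/-- `A` is a maximal 2-subgroup of the centraliser of an element not conjugate into `Z`. -/
theorem eq_A_of_centralizer {a : H} (ha : a ∈ f.A) (hno : ∀ g : H, g * a * g⁻¹ ∉ f.Z) {Q : Subgroup H}
    (hQ : IsPGroup 2 Q) (hQC : ∀ x ∈ Q, x * a = a * x) (hAQ : f.A ≤ Q) : Q = f.A := by
  refine le_antisymm (fun x hx => ?_) hAQ
  obtain ⟨P, hP⟩ := hQ.exists_le_sylow
  obtain ⟨c, rfl⟩ := MulAction.exists_smul_eq H S P
  rw [Sylow.coe_subgroup_smul] at hP
  have hcA : MulAut.conj c⁻¹ • f.A = f.A := f.conj_eq_A (by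
    rw [map_inv, Subgroup.pointwise_smul_subset_iff, inv_inv]
    exact hAQ.trans hP)
  have ha' : c⁻¹ * a * c ∈ f.A := by
    rw [← hcA, mem_conj]
    simpa [mul_assoc] using ha
  have hx' := f.mem_A_of_commute ha' (fun h => hno c⁻¹ (by simpa using h)) (mem_conj.1 (hP hx)) (by
    have := hQC x hx
    calc c⁻¹ * x * c * (c⁻¹ * a * c) = c⁻¹ * (x * a) * c := by group
      _ = c⁻¹ * (a * x) * c := by rw [this]
      _ = c⁻¹ * a * c * (c⁻¹ * x * c) := by group)
  rw [← hcA, mem_conj] at hx'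
  simpa [mul_assoc] using hx'

/-- If `A ∖ Z` is not fused into `Z`, then `B` is strongly closed. -/
theorem B_closed (hno : ¬ f.FusedA) : Cfsg.IsStronglyClosed f.B (S : Subgroup H) := by
  refine ⟨f.B_le, fun b hb g hgS => ?_⟩
  set x := g * b * g⁻¹ with hx
  have hx2 : x * x = 1 := by
    calc x * x = g * (b * b) * g⁻¹ := by rw [hx]; group
      _ = 1 := by rw [f.sq_B hb, mul_one, mul_inv_cancel]
  by_contra hxB
  have hxA := (f.invol hgS hx2).resolve_right hxB
  have hxZ : x ∉ f.Z := fun h => hxB (f.Z_le_B h)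
  have hxno : ∀ k : H, k * x * k⁻¹ ∉ f.Z := fun k hk => hno ⟨x, hxA, hxZ, k, hk⟩
  have hbno : ∀ k : H, k * b * k⁻¹ ∉ f.Z := fun k hk => hxno (k * g⁻¹) (by
    rw [show k * g⁻¹ * x * (k * g⁻¹)⁻¹ = k * b * k⁻¹ by rw [hx]; group]; exact hk)
  set C := centralizer ({x} : Set H) with hC
  have hAC : f.A ≤ C := fun a ha => mem_centralizer_singleton_iff.2 (f.comm_A ha hxA)
  have hBC : MulAut.conj g • f.B ≤ C := fun y hy => mem_centralizer_singleton_iff.2 (by
    have hy' := mem_conj.1 hy
    have h := f.swap.comm_A (f.swap_A.symm ▸ hy') (f.swap_A.symm ▸ hb)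
    calc y * x = g * (g⁻¹ * y * g * b) * g⁻¹ := by rw [hx]; group
      _ = g * (b * (g⁻¹ * y * g)) * g⁻¹ := by rw [h]
      _ = x * y := by rw [hx]; group)
  let T : Sylow 2 C := ⟨f.A.subgroupOf C, (IsPGroup.of_card (n := 4) (by rw [f.card_A]; norm_num) :
      IsPGroup 2 f.A).comap_of_injective C.subtype C.subtype_injective, fun {Q} hQ hle => by
    have h := f.eq_A_of_centralizer hxA hxno (hQ.map C.subtype) (by
      rintro _ ⟨q, -, rfl⟩
      exact mem_centralizer_singleton_iff.1 q.2) (fun a ha => ⟨⟨a, hAC ha⟩, hle ha, rfl⟩)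
    rw [← h, subgroupOf, comap_map_eq_self_of_injective C.subtype_injective]⟩
  obtain ⟨P, hP⟩ := ((IsPGroup.of_card (n := 4) (by rw [card_conj, f.card_B]; norm_num) :
    IsPGroup 2 ↥(MulAut.conj g • f.B)).comap_of_injective C.subtype C.subtype_injective).exists_le_sylow
  obtain ⟨c, hc⟩ := MulAction.exists_smul_eq C T P
  have hle : MulAut.conj g • f.B ≤ MulAut.conj (c : H) • f.A := fun y hy => by
    have h1 : (⟨y, hBC hy⟩ : C) ∈ (P : Subgroup C) := hP hy
    rw [← hc, Sylow.coe_subgroup_smul, mem_pointwise_smul_iff_inv_smul_mem, ← map_inv, MulAut.smul_def,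
      MulAut.conj_apply, inv_inv] at h1
    exact mem_conj.2 h1
  have heq : MulAut.conj g • f.B = MulAut.conj (c : H) • f.A :=
    eq_of_le_of_card_ge hle (by rw [card_conj, card_conj, f.card_A, f.card_B])
  exact f.A_conj_ne_B (g⁻¹ * c) (by rw [conjH_mul f, ← heq, ← conjH_mul f, inv_mul_cancel, map_one, one_smul])

end Frame

end CfsgLib.LThreeFour
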