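import Cfsg.Agent.Lib.Solvable.CoprimeGeneration
import Cfsg.Agent.Lib.InvChar.SolvableTwo
import Cfsg.Prelude.Def_CaseTheorems

/-!
# Linear groups of degree four over `F₂` with a Sylow 2-subgroup fixing a plane

`Y` is a group of automorphisms of an elementary abelian group `W` of order 16 with a Sylow 2-subgroup `E` of
order 4, all of whose involutions have the same fixed points `Z`, of order 4.  Elements of odd order centralising
an involution of `E` are trivial or satisfy `M² + M + 1 = 0`; hence so do those of `O(Y)`.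
-/

set_option autoImplicit false
set_option linter.unusedSectionVars false
set_option linter.style.haveILetI false

namespace CfsgLib.LThreeFour

universe u

/-- An endomorphism is a root of `X² + X + 1`. -/
def Quad {W : Type u} [AddCommGroup W] (M : AddMonoid.End W) : Prop := ∀ v, M (M v) + M v + v = 0

variable {W : Type u} [AddCommGroup W]

/-- The data of a Sylow 2-subgroup of the shape of a root group of `SL₂(4)`. -/
structure EData (Y : Subgroup (AddMonoid.End W)ˣ) where
  char_two : ∀ v : W, v + v = 0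
  card_W : Nat.card W = 16
  E : Subgroup (AddMonoid.End W)ˣ
  E_le : E ≤ Y
  card_E : Nat.card E = 4
  Z : AddSubgroup W
  card_Z : Nat.card Z = 4
  fix : ∀ e ∈ E, e ≠ 1 → ∀ v, ((e : AddMonoid.End W) v = v ↔ v ∈ Z)
  comm : ∀ e ∈ E, ∀ v, (e : AddMonoid.End W) v + v ∈ Z
  not_dvd : ¬ 8 ∣ Nat.card Y
  ω₀ : AddMonoid.End W
  ω₀_quad : Quad ω₀
  ω₀_comm : ∀ e ∈ E, Commute ω₀ (e : AddMonoid.End W)

/-- A subgroup containing all squares and a Sylow 2-subgroup of order 4 is the whole group. -/
theorem eq_top_of_squares {G : Type u} [Group G] [Finite G] (H : Subgroup G) (hsq : ∀ g : G, g * g ∈ H)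
    (h4 : 4 ∣ Nat.card H) (h8 : ¬ 8 ∣ Nat.card G) : H = ⊤ := by
  have hn : H.Normal := ⟨fun h hh g => by
    have : g * h * g⁻¹ = g * h * (g * h) * h⁻¹ * (g * g)⁻¹ := by group
    rw [this]
    exact mul_mem (mul_mem (hsq _) (inv_mem hh)) (inv_mem (hsq g))⟩
  have hp : IsPGroup 2 (G ⧸ H) := fun q => by
    induction q using QuotientGroup.induction_on with
    | _ g => exact ⟨1, by rw [pow_one, pow_two, ← QuotientGroup.mk_mul, QuotientGroup.eq_one_iff]; exact hsq g⟩
  haveI : Fact (Nat.Prime 2) := ⟨Nat.prime_two⟩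
  obtain ⟨k, hk⟩ := IsPGroup.iff_card.1 hp
  rcases k with _ | k
  · exact Subgroup.index_eq_one.1 hk
  · refine absurd ?_ h8
    rw [← H.card_mul_index, Subgroup.index, hk]
    exact (show 8 = 4 * 2 by norm_num) ▸ Nat.mul_dvd_mul h4 (dvd_pow_self 2 (Nat.succ_ne_zero k))

namespace EData

variable {Y : Subgroup (AddMonoid.End W)ˣ} (D : EData Y)

include D

theorem finite_W : Finite W := Nat.finite_of_card_ne_zero (by rw [D.card_W]; norm_num)

theorem finite_units : Finite (AddMonoid.End W)ˣ :=
  haveI := D.finite_W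
  haveI : Finite (AddMonoid.End W) := Finite.of_injective _ DFunLike.coe_injective
  Finite.of_injective _ Units.val_injective

theorem neg_eq (v : W) : -v = v := neg_eq_of_add_eq_zero_left (D.char_two v)

theorem add_cancel (v w : W) : v + (v + w) = w := by rw [← add_assoc, D.char_two, zero_add]

theorem eq_of_add {v w : W} (h : v + w = 0) : v = w := by rw [eq_neg_of_add_eq_zero_left h, D.neg_eq]

theorem fixZ {e : (AddMonoid.End W)ˣ} (he : e ∈ D.E) {z : W} (hz : z ∈ D.Z) :
    (e : AddMonoid.End W) z = z := by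
  rcases eq_or_ne e 1 with rfl | he1
  · rfl
  · exact (D.fix e he he1 z).2 hz

theorem invol {e : (AddMonoid.End W)ˣ} (he : e ∈ D.E) (v : W) :
    (e : AddMonoid.End W) ((e : AddMonoid.End W) v) = v := by
  have h := D.fixZ he (D.comm e he v)
  rw [map_add] at h
  calc (e : AddMonoid.End W) ((e : AddMonoid.End W) v)
      = (e : AddMonoid.End W) v + ((e : AddMonoid.End W) ((e : AddMonoid.End W) v) + (e : AddMonoid.End W) v) := by
        rw [add_comm ((e : AddMonoid.End W) ((e : AddMonoid.End W) v)), D.add_cancel]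
    _ = v := by rw [h, D.add_cancel]

theorem exists_E : ∃ e ∈ D.E, e ≠ 1 := by
  haveI : Finite D.E := Nat.finite_of_card_ne_zero (by rw [D.card_E]; norm_num)
  haveI : Nontrivial D.E := Finite.one_lt_card_iff_nontrivial.1 (by rw [D.card_E]; norm_num)
  obtain ⟨⟨e, he⟩, hne⟩ := exists_ne (1 : D.E)
  exact ⟨e, he, fun h => hne (Subtype.ext h)⟩

theorem mem_Z_of_commute {M : AddMonoid.End W} {e : (AddMonoid.End W)ˣ} (he : e ∈ D.E) (he1 : e ≠ 1)
    (hM : Commute M e) {z : W} (hz : z ∈ D.Z) : M z ∈ D.Z := by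
  refine (D.fix e he he1 _).1 ?_
  calc (e : AddMonoid.End W) (M z) = M ((e : AddMonoid.End W) z) := (DFunLike.congr_fun hM.eq z).symm
    _ = M z := by rw [D.fixZ he hz]

theorem Z_cases {a b x : W} (ha : a ∈ D.Z) (hb : b ∈ D.Z) (ha0 : a ≠ 0) (hb0 : b ≠ 0) (hab : a ≠ b)
    (hx : x ∈ D.Z) : x = 0 ∨ x = a ∨ x = b ∨ x = a + b := by
  classical
  haveI := D.finite_W
  haveI := Fintype.ofFinite ↥D.Z
  by_contra! h
  obtain ⟨h0, h1, h2, h3⟩ := h
  let l : List ↥D.Z := [0, ⟨a, ha⟩, ⟨b, hb⟩, ⟨a + b, add_mem ha hb⟩, ⟨x, hx⟩]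
  have hl : l.Nodup := by
    have hs0 : a + b ≠ 0 := fun h => hab (D.eq_of_add h)
    have hsa : a + b ≠ a := fun h => hb0 (add_eq_left.1 h)
    have hsb : a + b ≠ b := fun h => ha0 (add_eq_right.1 h)
    simp [l, Subtype.ext_iff, ha0.symm, hb0.symm, hab, hs0.symm, hsa.symm, hsb.symm, h0.symm, h1.symm,
      h2.symm, h3.symm]
  have h5 := hl.length_le_card
  rw [← Nat.card_eq_fintype_card, D.card_Z] at h5
  simp [l] at h5

/-- An element commuting with one involution of `E` and quadratic on `Z` centralises `E`. -/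
theorem commute_all {M : AddMonoid.End W} {e : (AddMonoid.End W)ˣ} (he : e ∈ D.E) (he1 : e ≠ 1)
    (hM : Commute M e) (hq : ∀ z ∈ D.Z, M (M z) + M z + z = 0) {e' : (AddMonoid.End W)ˣ} (he' : e' ∈ D.E) :
    Commute M e' := by
  rcases eq_or_ne e' 1 with rfl | he'1
  · exact Commute.one_right M
  rcases eq_or_ne e' e with rfl | hne
  · exact hM
  have he'' : e' * e ∈ D.E := mul_mem he' he
  have he''1 : e' * e ≠ 1 := fun h => hne (by
    have hee : e * e = 1 := Units.ext (DFunLike.ext _ _ fun v => D.invol he v)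
    calc e' = e' * e * e := by rw [mul_assoc, hee, mul_one]
      _ = e := by rw [h, one_mul])
  refine DFunLike.ext _ _ fun v => ?_
  show M ((e' : AddMonoid.End W) v) = (e' : AddMonoid.End W) (M v)
  have hMe : ∀ w, (e : AddMonoid.End W) (M w) = M ((e : AddMonoid.End W) w) :=
    fun w => (DFunLike.congr_fun hM.eq w).symm
  -- the three translations
  have hadd : ∀ w, (e' : AddMonoid.End W) ((e : AddMonoid.End W) w) + w =
      ((e : AddMonoid.End W) w + w) + ((e' : AddMonoid.End W) w + w) := fun w => by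
    have h := D.fixZ he' (D.comm e he w)
    rw [map_add] at h
    rw [← h]
    calc (e' : AddMonoid.End W) ((e : AddMonoid.End W) w) + w
        = (e' : AddMonoid.End W) ((e : AddMonoid.End W) w) +
            ((e' : AddMonoid.End W) w + ((e' : AddMonoid.End W) w + w)) := by rw [D.add_cancel]
      _ = _ := by abel
  have hsep : ∀ w, w ∉ D.Z → (e' : AddMonoid.End W) w + w ≠ 0 ∧
      (e' : AddMonoid.End W) w + w ≠ (e : AddMonoid.End W) w + w := fun w hw =>
    ⟨fun h => hw ((D.fix e' he' he'1 w).1 (D.eq_of_add h)), fun h => hw ((D.fix _ he'' he''1 w).1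
      (D.eq_of_add (by
        show (e' : AddMonoid.End W) ((e : AddMonoid.End W) w) + w = 0
        rw [hadd, h, D.char_two])))⟩
  by_cases hv : v ∈ D.Z
  · rw [D.fixZ he' hv, D.fixZ he' (D.mem_Z_of_commute he he1 hM hv)]
  set z := (e : AddMonoid.End W) v + v with hz_def
  set x := (e' : AddMonoid.End W) v + v with hx_def
  have hz : z ∈ D.Z := D.comm e he v
  have hz0 : z ≠ 0 := fun h => hv ((D.fix e he he1 v).1 (D.eq_of_add h))
  have hMz : M z ∈ D.Z := D.mem_Z_of_commute he he1 hM hz
  have hMv : (e : AddMonoid.End W) (M v) + M v = M z := by rw [hMe, hz_def, map_add]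
  have hMz0 : M z ≠ 0 := fun h => hz0 (by
    have := hq z hz
    rwa [h, map_zero, add_zero, zero_add] at this)
  have hMzz : z ≠ M z := fun h => hz0 (by
    have := hq z hz
    rwa [← h, ← h, D.char_two, zero_add] at this)
  have hMv_not : M v ∉ D.Z := fun h => hMz0 (by rw [← hMv, D.fixZ he h, D.char_two])
  have hsum_not : v + M v ∉ D.Z := fun h => hMzz (D.eq_of_add (by
    have h' := D.fixZ he h
    rw [map_add] at h'
    rw [← hMv, hz_def]
    calc (e : AddMonoid.End W) v + v + ((e : AddMonoid.End W) (M v) + M v)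
        = ((e : AddMonoid.End W) v + (e : AddMonoid.End W) (M v)) + (v + M v) := by abel
      _ = 0 := by rw [h', D.char_two]))
  have hMMz : M (M z) = z + M z := D.eq_of_add (by rw [add_comm z, ← add_assoc, hq z hz])
  suffices h : (e' : AddMonoid.End W) (M v) + M v = M x by
    rw [hx_def, map_add] at h
    exact (add_right_cancel h).symm
  set y := (e' : AddMonoid.End W) (M v) + M v with hy_def
  obtain ⟨hx0, hxz⟩ := hsep v hv
  obtain ⟨hy0, hyz⟩ := hsep (M v) hMv_not
  rw [hMv] at hyz
  obtain ⟨hxy0, hxyz⟩ := hsep (v + M v) hsum_not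
  have exy : (e' : AddMonoid.End W) (v + M v) + (v + M v) = x + y := by rw [map_add, hx_def, hy_def]; abel
  have ezz : (e : AddMonoid.End W) (v + M v) + (v + M v) = z + M z := by
    rw [map_add, ← hMv, hz_def]; abel
  rw [exy] at hxy0 hxyz
  rw [ezz] at hxyz
  rcases D.Z_cases hz hMz hz0 hMz0 hMzz (D.comm e' he' v) with hc | hc | hc | hc <;> rw [← hx_def] at hc
  · exact absurd hc hx0
  · exact absurd hc hxz
  all_goals rcases D.Z_cases hz hMz hz0 hMz0 hMzz (D.comm e' he' (M v)) with hd | hd | hd | hd <;>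
    rw [← hy_def] at hd
  all_goals first
    | exact absurd hd hy0
    | exact absurd hd hyz
    | (rw [hd, hc, hMMz]; done)
    | (rw [hd, hc, map_add, hMMz, add_comm (M z), add_assoc, D.char_two, add_zero]; done)
    | exact absurd (by rw [hc, hd, D.char_two]) hxy0
    | exact absurd (by rw [hc, hd, add_comm (M z)]) hxyz

/-- Elements of odd order centralising an involution of `E`. -/
theorem odd_cases {x : (AddMonoid.End W)ˣ} {n : ℕ} (hn : Odd n) (hxn : x ^ n = 1)
    {e : (AddMonoid.End W)ˣ} (he : e ∈ D.E) (he1 : e ≠ 1) (hxe : Commute x e) :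
    x = 1 ∨ (x ^ 3 = 1 ∧ Quad (x : AddMonoid.End W) ∧
      ∀ e' ∈ D.E, Commute (x : AddMonoid.End W) e') := by
  -- squares fixing a point
  have hfix : ∀ (y : (AddMonoid.End W)ˣ) (v : W), y ^ n = 1 →
      (y : AddMonoid.End W) ((y : AddMonoid.End W) v) = v → (y : AddMonoid.End W) v = v := by
    intro y v hy h
    obtain ⟨k, rfl⟩ := hn
    have h2 : ∀ j, ((y ^ (2 * j) : (AddMonoid.End W)ˣ) : AddMonoid.End W) v = v := by
      intro j
      induction j with
      | zero => rfl
      | succ j ih =>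
        rw [show 2 * (j + 1) = 1 + (1 + 2 * j) by omega, pow_add, pow_add, pow_one]
        show (y : AddMonoid.End W) ((y : AddMonoid.End W) (((y ^ (2 * j) : (AddMonoid.End W)ˣ) :
          AddMonoid.End W) v)) = v
        rw [ih, h]
    have := DFunLike.congr_fun (congrArg Units.val hy) v
    rw [add_comm, pow_add, pow_one] at this
    calc (y : AddMonoid.End W) v
        = (y : AddMonoid.End W) (((y ^ (2 * k) : (AddMonoid.End W)ˣ) : AddMonoid.End W) v) := by rw [h2 k]
      _ = v := this
  have hZmap : ∀ y : (AddMonoid.End W)ˣ, Commute y e → ∀ z ∈ D.Z, (y : AddMonoid.End W) z ∈ D.Z :=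
    fun y hy z hz => D.mem_Z_of_commute he he1 (congrArg Units.val hy.eq) hz
  have htriv : ∀ y : (AddMonoid.End W)ˣ, y ^ n = 1 → Commute y e →
      (∀ z ∈ D.Z, (y : AddMonoid.End W) z = z) → y = 1 := by
    intro y hy hye hz
    refine Units.ext (DFunLike.ext _ _ fun v => hfix y v hy ?_)
    have hw : (y : AddMonoid.End W) v + v ∈ D.Z := by
      refine (D.fix e he he1 _).1 ?_
      have hev : (e : AddMonoid.End W) v = v + ((e : AddMonoid.End W) v + v) := by
        rw [add_comm ((e : AddMonoid.End W) v), D.add_cancel]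
      have hye' : (e : AddMonoid.End W) ((y : AddMonoid.End W) v) =
          (y : AddMonoid.End W) ((e : AddMonoid.End W) v) :=
        (DFunLike.congr_fun (congrArg Units.val hye.eq) v).symm
      rw [map_add, hye']
      generalize hN : (e : AddMonoid.End W) v + v = N at hev
      have hNZ : N ∈ D.Z := hN ▸ D.comm e he v
      rw [hev, map_add, hz N hNZ]
      calc (y : AddMonoid.End W) v + N + (v + N) = (y : AddMonoid.End W) v + v + (N + N) := by abel
        _ = _ := by rw [D.char_two, add_zero]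
    have := hz _ hw
    rw [map_add] at this
    exact add_right_cancel (this.trans (add_comm _ _))
  have hpoint : ∀ y : (AddMonoid.End W)ˣ, y ^ n = 1 → Commute y e → ∀ z ∈ D.Z, z ≠ 0 →
      (y : AddMonoid.End W) z = z → ∀ w ∈ D.Z, (y : AddMonoid.End W) w = w := by
    intro y hy hye z hz hz0 hyz w hw
    rcases eq_or_ne w 0 with rfl | hw0
    · exact map_zero _
    rcases eq_or_ne w z with rfl | hwz
    · exact hyz
    refine hfix y w hy ?_
    rcases D.Z_cases hz hw hz0 hw0 hwz.symm (hZmap y hye w hw) with h | h | h | h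
    · have := congrArg ((y⁻¹ : (AddMonoid.End W)ˣ) : AddMonoid.End W) h
      rw [map_zero] at this
      have e1 : ((y⁻¹ : (AddMonoid.End W)ˣ) : AddMonoid.End W) ((y : AddMonoid.End W) w) = w :=
        DFunLike.congr_fun y.inv_mul w
      exact absurd (e1.symm.trans this) hw0
    · have := congrArg ((y⁻¹ : (AddMonoid.End W)ˣ) : AddMonoid.End W) (h.trans hyz.symm)
      have e1 : ∀ v, ((y⁻¹ : (AddMonoid.End W)ˣ) : AddMonoid.End W) ((y : AddMonoid.End W) v) = v :=
        fun v => DFunLike.congr_fun y.inv_mul v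
      rw [e1, e1] at this
      exact absurd this hwz
    · rw [h, h]
    · rw [h, map_add, hyz, h, D.add_cancel]
  by_cases hall : ∀ z ∈ D.Z, (x : AddMonoid.End W) z = z
  · exact Or.inl (htriv x hxn hxe hall)
  right
  have hnf : ∀ z ∈ D.Z, z ≠ 0 → (x : AddMonoid.End W) z ≠ z :=
    fun z hz hz0 h => hall (hpoint x hxn hxe z hz hz0 h)
  have hqZ : ∀ z ∈ D.Z, (x : AddMonoid.End W) ((x : AddMonoid.End W) z) + (x : AddMonoid.End W) z + z = 0 := by
    intro z hz
    rcases eq_or_ne z 0 with rfl | hz0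
    · simp
    have hxz := hZmap x hxe z hz
    have hxz0 : (x : AddMonoid.End W) z ≠ 0 := fun h => hz0 (by
      have e1 : ((x⁻¹ : (AddMonoid.End W)ˣ) : AddMonoid.End W) ((x : AddMonoid.End W) z) = z :=
        DFunLike.congr_fun x.inv_mul z
      rw [← e1, h, map_zero])
    rcases D.Z_cases hz hxz hz0 hxz0 (hnf z hz hz0).symm (hZmap x hxe _ hxz) with h | h | h | h
    · exact absurd (by
        have e1 : ((x⁻¹ : (AddMonoid.End W)ˣ) : AddMonoid.End W)
            ((x : AddMonoid.End W) ((x : AddMonoid.End W) z)) = (x : AddMonoid.End W) z :=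
          DFunLike.congr_fun x.inv_mul _
        rw [← e1, h, map_zero]) hxz0
    · exact absurd (hfix x z hxn h) (hnf z hz hz0)
    · exact absurd h (hnf _ hxz hxz0)
    · rw [h, add_assoc z, D.char_two, add_zero, D.char_two]
  have hx3 : x ^ 3 = 1 := by
    refine htriv _ ?_ (hxe.pow_left 3) fun z hz => ?_
    · rw [← pow_mul, mul_comm, pow_mul, hxn, one_pow]
    · show (x : AddMonoid.End W) ((x : AddMonoid.End W) ((x : AddMonoid.End W) z)) = z
      have h1 := hqZ z hz
      have h2 : (x : AddMonoid.End W) ((x : AddMonoid.End W) z) = (x : AddMonoid.End W) z + z :=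
        D.eq_of_add (by rw [← add_assoc, h1])
      rw [h2, map_add, h2, add_right_comm, D.char_two, zero_add]
  have hxe' : Commute (x : AddMonoid.End W) e := congrArg Units.val hxe.eq
  refine ⟨hx3, fun v => ?_, fun e' he' => D.commute_all he he1 hxe' hqZ he'⟩
  set w := (x : AddMonoid.End W) ((x : AddMonoid.End W) v) + (x : AddMonoid.End W) v + v with hw_def
  have hxw : (x : AddMonoid.End W) w = w := by
    have h3 : (x : AddMonoid.End W) ((x : AddMonoid.End W) ((x : AddMonoid.End W) v)) = v :=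
      DFunLike.congr_fun (congrArg Units.val hx3) v
    rw [hw_def, map_add, map_add, h3]
    abel
  have hwZ : w ∈ D.Z := by
    refine (D.fix e he he1 _).1 (D.eq_of_add ?_)
    have hc : ∀ u, (e : AddMonoid.End W) ((x : AddMonoid.End W) u) =
        (x : AddMonoid.End W) ((e : AddMonoid.End W) u) := fun u => (DFunLike.congr_fun hxe'.eq u).symm
    simp only [hw_def, map_add, hc]
    rw [← hqZ _ (D.comm e he v)]
    simp only [map_add]
    abel
  by_contra hw0
  exact hnf w hwZ hw0 hxw

/-- Two elements of odd order which agree at a point of `Z`. -/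
theorem eq_one_of_fix {x : (AddMonoid.End W)ˣ} {n : ℕ} (hn : Odd n) (hxn : x ^ n = 1)
    {e : (AddMonoid.End W)ˣ} (he : e ∈ D.E) (he1 : e ≠ 1) (hxe : Commute x e) {z : W}
    (hz0 : z ≠ 0) (h : (x : AddMonoid.End W) z = z) : x = 1 := by
  refine (D.odd_cases hn hxn he he1 hxe).resolve_right fun hx => hz0 ?_
  have := hx.2.1 z
  rwa [h, h, D.char_two, zero_add] at this

/-- Two quadratic elements centralising `E` agree up to inversion at a point. -/
theorem point_cases {x x' : AddMonoid.End W} {e : (AddMonoid.End W)ˣ} (he : e ∈ D.E) (he1 : e ≠ 1)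
    (hxe : Commute x e) (hxe' : Commute x' e) (hq : Quad x) (hq' : Quad x') :
    ∃ z : W, z ≠ 0 ∧ (x' z = x z ∨ x' z = x (x z)) := by
  haveI := D.finite_W
  haveI : Nontrivial ↥D.Z := Finite.one_lt_card_iff_nontrivial.1 (by rw [D.card_Z]; norm_num)
  obtain ⟨⟨z, hz⟩, hne⟩ := exists_ne (0 : ↥D.Z)
  have hz0 : z ≠ 0 := fun h => hne (Subtype.ext h)
  refine ⟨z, hz0, ?_⟩
  have hxz0 : x z ≠ 0 := fun h => hz0 (by have := hq z; rwa [h, map_zero, add_zero, zero_add] at this)
  have hzx : z ≠ x z := fun h => hz0 (by have := hq z; rwa [← h, ← h, D.char_two, zero_add] at this)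
  rcases D.Z_cases hz (D.mem_Z_of_commute he he1 hxe hz) hz0 hxz0 hzx
    (D.mem_Z_of_commute he he1 hxe' hz) with h | h | h | h
  · exact absurd (by have := hq' z; rwa [h, map_zero, add_zero, zero_add] at this) hz0
  · exact absurd (by have := hq' z; rwa [h, h, D.char_two, zero_add] at this) hz0
  · exact Or.inl h
  · exact Or.inr (h.trans (D.eq_of_add (by rw [add_comm z, ← add_assoc, hq z])).symm)

/-- A normal subgroup of odd order consists of trivial and quadratic elements. -/
theorem odd_normal {R : Subgroup (AddMonoid.End W)ˣ} (hRY : R ≤ Y)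
    (hnorm : ∀ y ∈ Y, ∀ r ∈ R, y * r * y⁻¹ ∈ R) (hodd : Odd (Nat.card R)) {x : (AddMonoid.End W)ˣ}
    (hx : x ∈ R) :
    x = 1 ∨ (x ^ 3 = 1 ∧ Quad (x : AddMonoid.End W) ∧ ∀ e ∈ D.E, Commute (x : AddMonoid.End W) e) := by
  haveI := D.finite_units
  have hsq : ∀ e ∈ D.E, e * e = 1 := fun e he => Units.ext (DFunLike.ext _ _ fun v => D.invol he v)
  haveI : IsMulCommutative D.E := ⟨⟨fun a b => Subtype.ext (by
    have ha := inv_eq_of_mul_eq_one_right (hsq a a.2)
    have hb := inv_eq_of_mul_eq_one_right (hsq b b.2)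
    have hab := inv_eq_of_mul_eq_one_right (hsq _ (mul_mem a.2 b.2))
    rw [mul_inv_rev, ha, hb] at hab
    exact hab.symm)⟩⟩
  have hcyc : ¬ IsCyclic D.E := fun h => by
    obtain ⟨g, hg⟩ := h.exists_generator
    have h2 : orderOf g ∣ 2 := orderOf_dvd_of_pow_eq_one (Subtype.ext ((pow_two _).trans (hsq g g.2)))
    have := Nat.le_of_dvd (by norm_num) h2
    rw [orderOf_eq_card_of_forall_mem_zpowers hg, D.card_E] at this
    omega
  have hEN : D.E ≤ Subgroup.normalizer (R : Set (AddMonoid.End W)ˣ) := fun e he => by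
    refine Subgroup.mem_normalizer_iff.2 fun r => ⟨fun hr => hnorm e (D.E_le he) r hr, fun hr => ?_⟩
    have := hnorm e⁻¹ (inv_mem (D.E_le he)) _ hr
    simpa [mul_assoc] using this
  have hcop : (Nat.card D.E).Coprime (Nat.card R) := by
    rw [D.card_E, show (4 : ℕ) = 2 ^ 2 from rfl]
    exact (Nat.coprime_two_left.2 hodd).pow_left 2
  have hodd' : ∀ r ∈ R, r ^ Nat.card R = 1 := fun r hr =>
    congrArg Subtype.val (pow_card_eq_one' (x := (⟨r, hr⟩ : R)))
  have hle : R ≤ Subgroup.centralizer (D.E : Set (AddMonoid.End W)ˣ) := by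
    conv_lhs => rw [← CfsgLib.CoprimeGeneration.iSup_centralizer_eq D.E R hcyc hEN hcop]
    refine iSup₂_le fun e he r hr => Subgroup.mem_centralizer_iff.2 fun e' he' => ?_
    rcases D.odd_cases hodd (hodd' r hr.1) he.1 he.2 (Subgroup.mem_centralizer_singleton_iff.1 hr.2)
      with rfl | ⟨-, -, h⟩
    · rw [mul_one, one_mul]
    · exact Units.ext (h e' he').eq.symm
  obtain ⟨e, he, he1⟩ := D.exists_E
  exact D.odd_cases hodd (hodd' x hx) he he1 (Subgroup.mem_centralizer_iff.1 (hle hx) e he).symm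

end EData

end CfsgLib.LThreeFour
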