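import Cfsg.Agent.Lib.InvChar.PSLThreeFour
import Cfsg.Prelude.Def_Transfer

/-!
# Subgroups with the structure of a Sylow 2-subgroup of `PSL₃(4)`

A frame of a subgroup `S` is an identification with the unitriangular group over the field of four elements.
It gives the two elementary abelian subgroups `A`, `B` of order 16 and their intersection `Z`.
-/

set_option autoImplicit false
set_option linter.unusedSectionVars false
set_option linter.style.haveILetI false

namespace CfsgLib.LThreeFour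

open Subgroup CfsgLib.InvCharThree CfsgLib.InvCharPSLThree

variable {F : Type*} [Field F] [Fintype F] [hF : Fact (Fintype.card F = 4)]

include hF

/-- The automorphism exchanging the two axes. -/
def swapUni : MulAut (Uni F) where
  toFun x := ⟨x.v, x.u, x.w + x.u * x.v⟩
  invFun x := ⟨x.v, x.u, x.w + x.u * x.v⟩
  left_inv x := Uni.ext rfl rfl (show x.w + x.u * x.v + x.v * x.u = x.w by
    linear_combination add_self' (x.u * x.v))
  right_inv x := Uni.ext rfl rfl (show x.w + x.u * x.v + x.v * x.u = x.w by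
    linear_combination add_self' (x.u * x.v))
  map_mul' x y := Uni.ext rfl rfl
    (show (x.w + y.w + x.v * y.u) + (x.u + y.u) * (x.v + y.v) =
        (x.w + x.u * x.v) + (y.w + y.u * y.v) + x.u * y.v by
      linear_combination add_self' (y.u * x.v))

theorem swapUni_u (x : Uni F) : (swapUni x).u = x.v := rfl

theorem swapUni_v (x : Uni F) : (swapUni x).v = x.u := rfl

theorem invol_cases {x : Uni F} (h : x * x = 1) : x.u = 0 ∨ x.v = 0 := by
  have h' := congrArg Uni.w h
  rw [uni_mul_w, uni_one_w, add_self', zero_add] at h'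
  exact (mul_eq_zero.1 h').symm

theorem sq_eq_one_iff {x : Uni F} : x * x = 1 ↔ x.u = 0 ∨ x.v = 0 := by
  refine ⟨invol_cases, fun h => Uni.ext (add_self' _) (add_self' _) ?_⟩
  rw [uni_mul_w, uni_one_w, add_self', zero_add]
  rcases h with h | h <;> rw [h] <;> ring

theorem comm_iff {x y : Uni F} : x * y = y * x ↔ x.v * y.u = y.v * x.u := by
  refine ⟨fun h => ?_, fun h => Uni.ext (add_comm _ _) (add_comm _ _) ?_⟩
  · have h' := congrArg Uni.w h
    rw [uni_mul_w, uni_mul_w] at h'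
    linear_combination h'
  · rw [uni_mul_w, uni_mul_w]
    linear_combination h

theorem mem_axisU {x : Uni F} : x ∈ axisU (F := F) ↔ x.u = 0 := Iff.rfl

theorem mem_axisV {x : Uni F} : x ∈ axisV (F := F) ↔ x.v = 0 := Iff.rfl

variable {H : Type*} [Group H]

variable (F) in
omit [Fintype F] hF in
/-- An identification of `S` with the unitriangular group. -/
structure Frame (S : Subgroup H) where
  θ : Uni F →* H
  inj : Function.Injective θ
  range_eq : θ.range = S

namespace Frame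

variable {S : Subgroup H} (f : Frame F S)

/-- The first elementary abelian subgroup of order 16. -/
def A : Subgroup H := (axisU (F := F)).map f.θ

/-- The second elementary abelian subgroup of order 16. -/
def B : Subgroup H := (axisV (F := F)).map f.θ

/-- The centre. -/
def Z : Subgroup H := f.A ⊓ f.B

/-- The frame with the axes exchanged. -/
def swap : Frame F S where
  θ := f.θ.comp (swapUni (F := F)).toMonoidHom
  inj := f.inj.comp (swapUni (F := F)).injective
  range_eq := by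
    rw [MonoidHom.range_comp, MonoidHom.range_eq_top.2 (swapUni (F := F)).surjective, ← MonoidHom.range_eq_map,
      f.range_eq]

theorem mem_S {x : H} : x ∈ S ↔ ∃ y, f.θ y = x := by rw [← MonoidHom.mem_range, f.range_eq]

theorem θ_mem (y : Uni F) : f.θ y ∈ S := f.mem_S.2 ⟨y, rfl⟩

theorem mem_A {y : Uni F} : f.θ y ∈ f.A ↔ y.u = 0 := by
  rw [A, Subgroup.mem_map_iff_mem f.inj, mem_axisU]

theorem mem_B {y : Uni F} : f.θ y ∈ f.B ↔ y.v = 0 := by
  rw [B, Subgroup.mem_map_iff_mem f.inj, mem_axisV]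

theorem mem_Z {y : Uni F} : f.θ y ∈ f.Z ↔ y.u = 0 ∧ y.v = 0 := by
  rw [Z, mem_inf, f.mem_A, f.mem_B]

theorem A_le : f.A ≤ S := by
  rintro _ ⟨y, -, rfl⟩; exact f.θ_mem y

theorem B_le : f.B ≤ S := by
  rintro _ ⟨y, -, rfl⟩; exact f.θ_mem y

theorem Z_le_A : f.Z ≤ f.A := inf_le_left

theorem Z_le_B : f.Z ≤ f.B := inf_le_right

theorem swap_A : f.swap.A = f.B := by
  ext x
  constructor
  · rintro ⟨y, hy, rfl⟩
    exact f.mem_B.2 hy
  · rintro ⟨y, hy, rfl⟩
    exact ⟨swapUni.symm y, hy, congrArg f.θ (swapUni.apply_symm_apply y)⟩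

theorem swap_B : f.swap.B = f.A := by
  ext x
  constructor
  · rintro ⟨y, hy, rfl⟩
    exact f.mem_A.2 hy
  · rintro ⟨y, hy, rfl⟩
    exact ⟨swapUni.symm y, hy, congrArg f.θ (swapUni.apply_symm_apply y)⟩

theorem swap_Z : f.swap.Z = f.Z := by rw [Z, Z, swap_A, swap_B, inf_comm]

include f in
theorem card_S : Nat.card ↥S = 64 := by
  rw [← f.range_eq, ← Nat.card_congr (MonoidHom.ofInjective f.inj).toEquiv, natCard_uni, hF.out]
  norm_num

theorem card_A : Nat.card ↥f.A = 16 := by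
  rw [A, card_map_of_injective f.inj, card_axisU]

theorem card_B : Nat.card ↥f.B = 16 := by
  rw [B, card_map_of_injective f.inj, card_axisV]

theorem card_Z : Nat.card ↥f.Z = 4 := by
  have h : f.Z = (axisU (F := F) ⊓ axisV).map f.θ := (Subgroup.map_inf _ _ _ f.inj).symm
  have e : ↥(axisU (F := F) ⊓ axisV) ≃ F :=
    { toFun := fun x => x.1.w
      invFun := fun c => ⟨⟨0, 0, c⟩, rfl, rfl⟩
      left_inv := fun x => Subtype.ext (Uni.ext x.2.1.symm x.2.2.symm rfl)
      right_inv := fun c => rfl }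
  rw [h, card_map_of_injective f.inj, Nat.card_congr e, Nat.card_eq_fintype_card, hF.out]

theorem sq_A {x : H} (hx : x ∈ f.A) : x * x = 1 := by
  obtain ⟨y, hy, rfl⟩ := hx
  rw [← map_mul, sq_eq_one_iff.2 (Or.inl hy), map_one]

theorem sq_B {x : H} (hx : x ∈ f.B) : x * x = 1 := by
  obtain ⟨y, hy, rfl⟩ := hx
  rw [← map_mul, sq_eq_one_iff.2 (Or.inr hy), map_one]

theorem inv_A {x : H} (hx : x ∈ f.A) : x⁻¹ = x := inv_eq_of_mul_eq_one_right (f.sq_A hx)

theorem comm_A {x y : H} (hx : x ∈ f.A) (hy : y ∈ f.A) : x * y = y * x := by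
  rw [← f.inv_A (mul_mem hx hy), mul_inv_rev, f.inv_A hx, f.inv_A hy]

theorem elementary_A : Cfsg.IsElementaryAbelian 2 f.A :=
  ⟨⟨⟨fun x y => Subtype.ext (f.comm_A x.2 y.2)⟩⟩, fun _ hx => (pow_two _).trans (f.sq_A hx)⟩

theorem invol {x : H} (hx : x ∈ S) (h : x * x = 1) : x ∈ f.A ∨ x ∈ f.B := by
  obtain ⟨y, rfl⟩ := f.mem_S.1 hx
  rw [← map_mul, ← map_one f.θ] at h
  exact (invol_cases (f.inj h)).imp f.mem_A.2 f.mem_B.2

theorem A_normal : S ≤ normalizer (f.A : Set H) := by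
  refine le_normalizer_iff.2 fun x hx a ha => ?_
  obtain ⟨y, rfl⟩ := f.mem_S.1 hx
  obtain ⟨z, hz, rfl⟩ := ha
  rw [← map_inv, ← map_mul, ← map_mul, f.mem_A, uni_mul_u, uni_mul_u, uni_inv_u,
    show z.u = 0 from hz, add_zero, add_neg_cancel]

theorem B_normal : S ≤ normalizer (f.B : Set H) := f.swap_A ▸ f.swap.A_normal

theorem Z_central {x z : H} (hx : x ∈ S) (hz : z ∈ f.Z) : x * z = z * x := by
  obtain ⟨y, rfl⟩ := f.mem_S.1 hx
  obtain ⟨w, rfl⟩ := f.mem_S.1 (f.A_le (f.Z_le_A hz))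
  rw [f.mem_Z] at hz
  rw [← map_mul, ← map_mul, comm_iff.2 (by rw [hz.1, hz.2, mul_zero, zero_mul])]

/-- Elements of `A` outside the centre have centraliser `A` in `S`. -/
theorem mem_A_of_commute {a x : H} (ha : a ∈ f.A) (haZ : a ∉ f.Z) (hx : x ∈ S) (h : x * a = a * x) :
    x ∈ f.A := by
  obtain ⟨y, rfl⟩ := f.mem_S.1 hx
  obtain ⟨z, hz, rfl⟩ := ha
  have hzu : z.u = 0 := hz
  rw [f.mem_Z] at haZ
  rw [← map_mul, ← map_mul] at h
  have h' := comm_iff.1 (f.inj h)
  rw [hzu, mul_zero] at h'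
  exact f.mem_A.2 ((mul_eq_zero.1 h'.symm).resolve_left fun e => haZ ⟨hzu, e⟩)

theorem mem_Z_of_center {x : H} (hx : x ∈ S) (h : ∀ y ∈ S, x * y = y * x) : x ∈ f.Z := by
  obtain ⟨y, rfl⟩ := f.mem_S.1 hx
  have h1 := h _ (f.θ_mem ⟨0, 1, 0⟩)
  have h2 := h _ (f.θ_mem ⟨1, 0, 0⟩)
  rw [← map_mul, ← map_mul] at h1 h2
  have e1 : y.v * 0 = 1 * y.u := comm_iff.1 (f.inj h1)
  have e2 : y.v * 1 = 0 * y.u := comm_iff.1 (f.inj h2)
  exact f.mem_Z.2 ⟨by linear_combination -e1, by linear_combination e2⟩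

/-- An element of `S` outside `A` has all of `Z` as commutators with `A`. -/
theorem exists_commutator {s z : H} (hs : s ∈ S) (hsA : s ∉ f.A) (hz : z ∈ f.Z) :
    ∃ a ∈ f.A, s * a * s⁻¹ * a⁻¹ = z := by
  obtain ⟨y, rfl⟩ := f.mem_S.1 hs
  obtain ⟨w, rfl⟩ := f.mem_S.1 (f.A_le (f.Z_le_A hz))
  rw [f.mem_A] at hsA
  rw [f.mem_Z] at hz
  refine ⟨f.θ ⟨0, w.w * y.u⁻¹, 0⟩, f.mem_A.2 rfl, ?_⟩
  have key : y * ⟨0, w.w * y.u⁻¹, 0⟩ = w * ⟨0, w.w * y.u⁻¹, 0⟩ * y := by
    refine Uni.ext ?_ ?_ ?_ <;> simp only [uni_mul_u, uni_mul_v, uni_mul_w]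
    · rw [hz.1]; ring
    · rw [hz.2]; ring
    · rw [hz.2, zero_add, inv_mul_cancel_right₀ hsA]
      linear_combination (-1 : F) * add_self' w.w
  rw [← map_mul, key, map_mul, map_mul]
  group

/-- Commutators of `S` lie in the centre. -/
theorem commutator_mem {x y : H} (hx : x ∈ S) (hy : y ∈ S) : x * y * x⁻¹ * y⁻¹ ∈ f.Z := by
  obtain ⟨a, rfl⟩ := f.mem_S.1 hx
  obtain ⟨b, rfl⟩ := f.mem_S.1 hy
  rw [← map_inv, ← map_inv, ← map_mul, ← map_mul, ← map_mul, f.mem_Z]
  simp only [uni_mul_u, uni_mul_v, uni_inv_u, uni_inv_v]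
  exact ⟨by ring, by ring⟩

theorem sup_eq : f.A ⊔ f.B = S := by
  refine le_antisymm (sup_le f.A_le f.B_le) fun x hx => ?_
  obtain ⟨y, rfl⟩ := f.mem_S.1 hx
  rw [mul_decomp y, map_mul]
  exact mul_mem_sup (f.mem_A.2 rfl) (f.mem_B.2 rfl)

/-- The elementary abelian subgroups of order 16. -/
theorem eq_A_or_B {E : Subgroup H} (hE : E ≤ S) (hsq : ∀ x ∈ E, x * x = 1) (h16 : Nat.card ↥E = 16) :
    E = f.A ∨ E = f.B := by
  have hfin : Finite ↥S := Nat.finite_of_card_ne_zero (by rw [f.card_S]; norm_num)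
  have hone : E ≤ f.A ∨ E ≤ f.B := by
    by_contra! h
    obtain ⟨a, haE, ha⟩ := SetLike.not_le_iff_exists.1 h.1
    obtain ⟨b, hbE, hb⟩ := SetLike.not_le_iff_exists.1 h.2
    have haB := (f.invol (hE haE) (hsq a haE)).resolve_left ha
    have hbA := (f.invol (hE hbE) (hsq b hbE)).resolve_right hb
    rcases f.invol (hE (mul_mem haE hbE)) (hsq _ (mul_mem haE hbE)) with e | e
    · exact ha ((mul_mem_cancel_right hbA).1 e)
    · exact hb ((mul_mem_cancel_left haB).1 e)
  haveI : Finite ↥f.A := Finite.of_injective _ (inclusion_injective f.A_le)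
  haveI : Finite ↥f.B := Finite.of_injective _ (inclusion_injective f.B_le)
  exact hone.imp (fun h => eq_of_le_of_card_ge h (by rw [f.card_A, h16]))
    (fun h => eq_of_le_of_card_ge h (by rw [f.card_B, h16]))

theorem A_ne_B : f.A ≠ f.B := fun h => by
  have h4 := f.card_Z
  rw [Z, h, inf_idem, f.card_B] at h4
  omega

/-- The image under a map which is injective on `S`. -/
def map {K : Type*} [Group K] (g : H →* K) (hg : ∀ x ∈ S, g x = 1 → x = 1) : Frame F (S.map g) where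
  θ := g.comp f.θ
  inj := (injective_iff_map_eq_one _).2 fun y hy =>
    (map_eq_one_iff f.θ f.inj).1 (hg _ (f.θ_mem y) hy)
  range_eq := by rw [MonoidHom.range_comp, f.range_eq]

theorem map_A {K : Type*} [Group K] (g : H →* K) (hg : ∀ x ∈ S, g x = 1 → x = 1) :
    (f.map g hg).A = f.A.map g := (Subgroup.map_map _ _ _).symm

theorem map_B {K : Type*} [Group K] (g : H →* K) (hg : ∀ x ∈ S, g x = 1 → x = 1) :
    (f.map g hg).B = f.B.map g := (Subgroup.map_map _ _ _).symm

end Frame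

/-- A subgroup isomorphic to a Sylow 2-subgroup of `PSL₃(4)` has a frame. -/
theorem exists_frame (S : Subgroup H) (P : Sylow 2 (Matrix.ProjectiveSpecialLinearGroup (Fin 3) F))
    (e : ↥S ≃* ↥(P : Subgroup (Matrix.ProjectiveSpecialLinearGroup (Fin 3) F))) : Nonempty (Frame F S) := by
  obtain ⟨d⟩ := uni_equiv_sylow_psl (F := F) (n := 2) (by norm_num) (by rw [hF.out]; norm_num) P
  refine ⟨⟨S.subtype.comp (d.trans e.symm).toMonoidHom,
    S.subtype_injective.comp (d.trans e.symm).injective, ?_⟩⟩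
  rw [MonoidHom.range_comp, MonoidHom.range_eq_top.2 (d.trans e.symm).surjective, ← MonoidHom.range_eq_map,
    Subgroup.range_subtype]

end CfsgLib.LThreeFour
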