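import Cfsg.Agent.Lib.LThreeFour.Action
import Cfsg.Agent.Lib.Struct76.Basic
import Cfsg.Agent.Lib.Solvable.Gaschutz

/-!
# The case of a normal `A`

A core-free group with normal `A` is a split extension of `A` by a group of semilinearly trivial automorphisms,
so it embeds in `GL₃(F)` modulo scalars as an affine group.
-/

set_option autoImplicit false
set_option linter.unusedSectionVars false
set_option linter.style.haveILetI false

namespace CfsgLib.LThreeFour

open Subgroup CfsgLib.InvCharThree CfsgLib.InvCharPSLThree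
open scoped Pointwise IsMulCommutative

universe u v

local instance : Fact (Nat.Prime 2) := ⟨Nat.prime_two⟩

/-- An odd-core-free group has self-centralising normal abelian Sylow intersections. -/
theorem centralizer_eq_of_normal {G : Type u} [Group G] [Finite G] (hO : Cfsg.oddCore G = ⊥) (P : Sylow 2 G)
    (A : Subgroup G) [A.Normal] (hcomm : IsMulCommutative ↥A)
    (hP : ∀ x ∈ (P : Subgroup G), x ∈ centralizer (A : Set G) → x ∈ A) :
    centralizer (A : Set G) = A := by
  set C := centralizer (A : Set G) with hC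
  haveI : C.Normal := Subgroup.normal_centralizer
  have hAC : A ≤ C := Subgroup.le_centralizer A
  obtain ⟨Q, hQ⟩ := CfsgLib.Struct76.exists_sylow_inf_normal P C
  have hQA : (Q : Subgroup C) ≤ A.subgroupOf C := fun x hx => by
    rw [hQ] at hx
    exact mem_subgroupOf.2 (hP _ (mem_subgroupOf.1 hx) x.2)
  haveI : IsMulCommutative ↥(Q : Subgroup C) :=
    ⟨⟨fun a b => Subtype.ext (Subtype.ext (congrArg (fun x : A => (x : G))
      (hcomm.is_comm.comm (⟨_, mem_subgroupOf.1 (hQA a.2)⟩ : A) ⟨_, mem_subgroupOf.1 (hQA b.2)⟩)))⟩⟩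
  have hPC : normalizer ((Q : Subgroup C) : Set C) ≤ centralizer ((Q : Subgroup C) : Set C) := fun m _ =>
    mem_centralizer_iff.2 fun a ha => Subtype.ext (mem_centralizer_iff.1 m.2 _ (mem_subgroupOf.1 (hQA ha)))
  have hk : (MonoidHom.transferSylow Q hPC).ker = ⊥ :=
    le_bot_iff.1 ((CfsgLib.PCore.pPrimeCore_eq_bot_of_normal C hO :
      Cfsg.pPrimeCore 2 ↥C = ⊥) ▸ CfsgLib.PCore.le_pPrimeCore inferInstance
        (CfsgLib.PCore.coprime_of_not_dvd_card (MonoidHom.not_dvd_card_ker_transferSylow Q hPC)))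
  have hc := (MonoidHom.ker_transferSylow_isComplement' Q hPC).sup_eq_top
  rw [hk, bot_sup_eq] at hc
  exact le_antisymm (fun x hx => mem_subgroupOf.1 (hQA (hc ▸ mem_top (⟨x, hx⟩ : C)))) hAC

variable {F : Type v} [Field F] [Fintype F] [hF : Fact (Fintype.card F = 4)]
variable {H : Type u} [Group H] [Finite H] {S : Sylow 2 H} (f : Frame F (S : Subgroup H))

namespace Frame

/-- The complement of `A` in `S`. -/
def comp : Subgroup H where
  carrier := {x | ∃ y : Uni F, y.v = 0 ∧ y.w = 0 ∧ f.θ y = x}
  one_mem' := ⟨1, rfl, rfl, map_one _⟩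
  mul_mem' := by
    rintro _ _ ⟨a, ha, ha', rfl⟩ ⟨b, hb, hb', rfl⟩
    exact ⟨a * b, by rw [uni_mul_v, ha, hb, add_zero], by rw [uni_mul_w, ha', hb', ha]; ring, map_mul _ _ _⟩
  inv_mem' := by
    rintro _ ⟨a, ha, ha', rfl⟩
    refine ⟨a⁻¹, by rw [uni_inv_v, ha, neg_zero], ?_, map_inv _ _⟩
    have h := congrArg Uni.w (mul_inv_cancel a)
    rw [uni_mul_w, uni_one_w, ha, ha', zero_add, zero_mul, add_zero] at h
    exact h

theorem sup_comp : f.A ⊔ f.comp = (S : Subgroup H) := by
  refine le_antisymm (sup_le f.A_le ?_) fun x hx => ?_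
  · rintro _ ⟨y, -, -, rfl⟩
    exact f.θ_mem y
  · obtain ⟨y, rfl⟩ := f.mem_S.1 hx
    rw [mul_decomp y, map_mul]
    exact mul_mem_sup (f.mem_A.2 rfl) ⟨⟨y.u, 0, 0⟩, rfl, rfl, rfl⟩

theorem comp_inf : f.comp ⊓ f.A = ⊥ := by
  refine (Subgroup.eq_bot_iff_forall _).2 fun x hx => ?_
  obtain ⟨⟨y, hv, hw, rfl⟩, hA⟩ := hx
  rw [show y = 1 from Uni.ext (f.mem_A.1 hA) hv hw, map_one]

/-- `A` has a complement. -/
theorem exists_complement_A [f.A.Normal] : ∃ K : Subgroup H, K.IsComplement' f.A := by
  have hD : CfsgLib.Gaschutz.Data f.A (S : Subgroup H) f.comp :=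
    ⟨f.A_le, f.sup_comp ▸ le_sup_right, f.comp_inf, f.sup_comp⟩
  haveI := f.instCommA
  obtain ⟨K, hK⟩ := CfsgLib.Gaschutz.exists_complement hD (by
    rw [f.card_A, show (16 : ℕ) = 2 ^ 4 from rfl]
    exact ((Nat.prime_two.coprime_iff_not_dvd).2 S.not_dvd_index).pow_left 4)
  exact ⟨K, hK.symm⟩

/-- The ring map of the field of four elements sending a root to `M`. -/
noncomputable def fieldMap (M : AddMonoid.End (Additive ↥f.A)) (c : F) (a : F) :
    AddMonoid.End (Additive ↥f.A) :=
  haveI := Classical.decEq F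
  if a = 0 then 0 else if a = 1 then 1 else if a = c then M else M + 1

omit hF in
theorem four_cases [hF : Fact (Fintype.card F = 4)] {c : F} (hc : c * c + c + 1 = 0) (a : F) :
    a = 0 ∨ a = 1 ∨ a = c ∨ a = c + 1 := by
  classical
  by_contra! h
  obtain ⟨h0, h1, h2, h3⟩ := h
  have hc0 : c ≠ 0 := fun e => by rw [e] at hc; simp at hc
  have hc1 : c ≠ 1 := fun e => by
    rw [e] at hc
    have : (1 : F) = 0 := by linear_combination hc - two_zero (F := F)
    exact one_ne_zero this
  have hne : c + 1 ≠ 0 := fun e => hc1 (by linear_combination e - two_zero (F := F))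
  have hne1 : c + 1 ≠ c := fun e => one_ne_zero (add_eq_left.1 e)
  have hne2 : c + 1 ≠ 1 := fun e => hc0 (add_eq_right.1 e)
  let l : List F := [0, 1, c, c + 1, a]
  have hl : l.Nodup := by
    simp [l, hc0.symm, hc1.symm, hne.symm, hne1.symm, hne2.symm, h0.symm, h1.symm, h2.symm, h3.symm]
  have h5 := hl.length_le_card
  rw [hF.out] at h5
  simp [l] at h5

theorem fieldMap_hom {M : AddMonoid.End (Additive ↥f.A)} (hq : Quad M) {c : F} (hc : c * c + c + 1 = 0) :
    ∃ τ : F →+* AddMonoid.End (Additive ↥f.A), ∀ a, τ a = f.fieldMap M c a := by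
  classical
  have h2 : ∀ P : AddMonoid.End (Additive ↥f.A), P + P = 0 := fun P => DFunLike.ext _ _ fun v =>
    Additive.toMul.injective (Subtype.ext (f.sq_A (Additive.toMul (P v)).2))
  have hMM : M * M = M + 1 := by
    have h : M * M + M + 1 = 0 := DFunLike.ext _ _ hq
    calc M * M = M * M + M + 1 + (M + 1) := by
          rw [show M * M + M + 1 + (M + 1) = M * M + (M + M) + (1 + 1) by abel, h2, h2, add_zero, add_zero]
      _ = M + 1 := by rw [h, zero_add]
  have hc0 : c ≠ 0 := fun e => by rw [e] at hc; simp at hc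
  have hc1 : c ≠ 1 := fun e => by
    rw [e] at hc
    exact one_ne_zero (show (1 : F) = 0 by linear_combination hc - two_zero (F := F))
  have hcc : c * c = c + 1 := by linear_combination hc - (c + 1) * two_zero (F := F)
  have e0 : f.fieldMap M c 0 = 0 := by rw [fieldMap, if_pos rfl]
  have e1 : f.fieldMap M c 1 = 1 := by rw [fieldMap, if_neg one_ne_zero, if_pos rfl]
  have e2 : f.fieldMap M c c = M := by rw [fieldMap, if_neg hc0, if_neg hc1, if_pos rfl]
  have e3 : f.fieldMap M c (c + 1) = M + 1 := by
    rw [fieldMap, if_neg, if_neg, if_neg]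
    · exact fun e => one_ne_zero (add_eq_left.1 e)
    · exact fun e => hc0 (add_eq_right.1 e)
    · exact fun e => hc1 (by linear_combination e - two_zero (F := F))
  have a1 : (1 : F) + 1 = 0 := add_self' 1
  have a2 : c + c = 0 := add_self' c
  have a3 : 1 + c = c + 1 := add_comm _ _
  have a4 : c + (c + 1) = 1 := by linear_combination add_self' c
  have a5 : c + 1 + c = 1 := by linear_combination add_self' c
  have a6 : c + 1 + 1 = c := by linear_combination add_self' (1 : F)
  have a7 : 1 + (c + 1) = c := by linear_combination add_self' (1 : F)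
  have a8 : c + 1 + (c + 1) = 0 := add_self' _
  have b1 : c * (c + 1) = 1 := by linear_combination hc - two_zero (F := F)
  have b2 : (c + 1) * c = 1 := by linear_combination hc - two_zero (F := F)
  have b3 : (c + 1) * (c + 1) = c := by linear_combination hc
  have q1 : M * (M + 1) = 1 := by rw [mul_add, hMM, mul_one, add_assoc, add_comm 1 M, ← add_assoc, h2, zero_add]
  have q2 : (M + 1) * M = 1 := by rw [add_mul, hMM, one_mul, add_assoc, add_comm 1 M, ← add_assoc, h2, zero_add]
  have q3 : (M + 1) * (M + 1) = M := by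
    rw [add_mul, q1, one_mul, add_comm M, ← add_assoc, h2, zero_add]
  refine ⟨{ toFun := f.fieldMap M c, map_one' := e1, map_zero' := e0, map_mul' := ?_, map_add' := ?_ },
    fun a => rfl⟩
  · intro a b
    rcases four_cases hc a with rfl | rfl | rfl | rfl <;> rcases four_cases hc b with rfl | rfl | rfl | rfl
    all_goals simp only [zero_mul, mul_zero, one_mul, mul_one, hcc, b1, b2, b3, e0, e1, e2, e3, hMM, q1, q2, q3]
  · intro a b
    rcases four_cases hc a with rfl | rfl | rfl | rfl <;> rcases four_cases hc b with rfl | rfl | rfl | rfl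
    all_goals simp only [zero_add, add_zero, a1, a2, a3, a4, a5, a6, a7, a8, e0, e1, e2, e3]
    all_goals first
      | exact (h2 _).symm
      | (abel_nf; done)
      | (abel_nf; simp [two_nsmul, h2]; done)
      | (rw [← add_assoc, h2, zero_add])
      | (rw [add_right_comm, h2, zero_add])
      | (rw [add_assoc, h2, add_zero])
      | (rw [add_left_comm, h2, add_zero])

variable (F)

omit [Fintype F] hF in
/-- The affine matrix. -/
noncomputable def affine (P : Matrix (Fin 2) (Fin 2) F) (t : Fin 2 → F) : Matrix (Fin 2 ⊕ Fin 1) (Fin 2 ⊕ Fin 1) F :=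
  Matrix.fromBlocks P (Matrix.of fun i _ => t i) 0 1

omit [Fintype F] hF in
theorem affine_mul (P P' : Matrix (Fin 2) (Fin 2) F) (t t' : Fin 2 → F) :
    affine F P t * affine F P' t' = affine F (P * P') (P.mulVec t' + t) := by
  rw [affine, affine, Matrix.fromBlocks_multiply, affine]
  congr 1
  · simp
  · ext i j
    fin_cases i <;> simp [Matrix.mul_apply, Matrix.mulVec, dotProduct, Fin.sum_univ_two]
  · simp
  · simp

omit [Fintype F] hF in
theorem affine_inj {P P' : Matrix (Fin 2) (Fin 2) F} {t t' : Fin 2 → F} (h : affine F P t = affine F P' t') :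
    P = P' ∧ t = t' := by
  obtain ⟨h1, h2, -, -⟩ := Matrix.fromBlocks_inj.1 h
  exact ⟨h1, funext fun i => congrFun (congrFun h2 i) 0⟩

variable {F}

include f in
/-- **A core-free group with normal `A` embeds in `PGL₃(4)`.** -/
theorem embeds_of_normal (hO : Cfsg.oddCore H = ⊥) [hn : f.A.Normal] :
    ∃ g : H →* GL (Fin 3) F ⧸ Subgroup.center (GL (Fin 3) F), Function.Injective g := by
  classical
  haveI := f.instCommA
  obtain ⟨K, hK⟩ := f.exists_complement_A
  have hCA : centralizer (f.A : Set H) = f.A := by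
    refine centralizer_eq_of_normal hO S f.A inferInstance fun x hxS hx => ?_
    obtain ⟨a, ha, haZ⟩ : ∃ a ∈ f.A, a ∉ f.Z := SetLike.not_le_iff_exists.1 fun hle => by
      have := card_le_of_le hle
      rw [f.card_A, f.card_Z] at this
      omega
    exact f.mem_A_of_commute ha haZ hxS (mem_centralizer_iff.1 hx a ha).symm
  have hN : normalizer (f.A : Set H) = ⊤ := normalizer_eq_top f.A
  let nm : H →* ↥(normalizer (f.A : Set H)) :=
    (Subgroup.inclusion (le_of_eq hN.symm)).comp (Subgroup.topEquiv.symm.toMonoidHom)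
  obtain ⟨M, hq, hM⟩ := f.exists_omega
  obtain ⟨c, hc⟩ := exists_root hF.out
  obtain ⟨τ, hτ⟩ := f.fieldMap_hom hq hc
  letI : Module F (Additive ↥f.A) := Module.compHom _ τ
  have hsmul : ∀ (a : F) (w : Additive ↥f.A), a • w = f.fieldMap M c a w := fun a w => by
    show (τ a) w = _
    rw [hτ]
  have hcomm : ∀ (n : ↥(normalizer (f.A : Set H))) (a : F) (w : Additive ↥f.A),
      (f.act n : AddMonoid.End (Additive ↥f.A)) (a • w) = a • (f.act n : AddMonoid.End (Additive ↥f.A)) w := by
    intro n a w
    rw [hsmul, hsmul]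
    have h1 : Commute (f.fieldMap M c a) (f.act n : AddMonoid.End (Additive ↥f.A)) := by
      unfold fieldMap
      split_ifs
      · exact Commute.zero_left _
      · exact Commute.one_left _
      · exact hM n
      · exact (hM n).add_left (Commute.one_left _)
    exact (DFunLike.congr_fun h1.eq w).symm
  haveI : Finite (Additive ↥f.A) := Nat.finite_of_card_ne_zero (by
    rw [Nat.card_congr Additive.toMul, f.card_A]; norm_num)
  haveI : Module.Finite F (Additive ↥f.A) := Module.Finite.of_finite
  have hr : Module.finrank F (Additive ↥f.A) = 2 := by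
    have h := Module.natCard_eq_pow_finrank (K := F) (V := Additive ↥f.A)
    rw [Nat.card_congr Additive.toMul, f.card_A, Nat.card_eq_fintype_card, hF.out] at h
    exact Nat.pow_right_injective (le_refl 2 |>.trans (by norm_num : 2 ≤ 4)) (h.symm.trans (by norm_num))
  let b := Module.finBasisOfFinrankEq F (Additive ↥f.A) hr
  let π : H →* K := hK.QuotientMulEquiv.toMonoidHom.comp (QuotientGroup.mk' f.A)
  let L : ↥(normalizer (f.A : Set H)) →* Module.End F (Additive ↥f.A) :=
    { toFun := fun n =>
        { toFun := fun w => (f.act n : AddMonoid.End (Additive ↥f.A)) w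
          map_add' := fun v w => map_add _ _ _
          map_smul' := fun a w => hcomm n a w }
      map_one' := LinearMap.ext fun w => by
        show (f.act 1 : AddMonoid.End (Additive ↥f.A)) w = w
        rw [map_one]
        rfl
      map_mul' := fun m n => LinearMap.ext fun w => by
        show (f.act (m * n) : AddMonoid.End (Additive ↥f.A)) w =
          (f.act m : AddMonoid.End (Additive ↥f.A)) ((f.act n : AddMonoid.End (Additive ↥f.A)) w)
        rw [map_mul]
        rfl }
  have hπ : ∀ g : H, g * (π g : H)⁻¹ ∈ f.A := fun g => by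
    have h : QuotientGroup.mk' f.A g = QuotientGroup.mk' f.A (π g : H) :=
      (hK.QuotientMulEquiv.symm_apply_apply (QuotientGroup.mk' f.A g)).symm
    have h2 := QuotientGroup.eq.1 h
    have h3 := hn.conj_mem _ (inv_mem h2) g
    simpa [mul_assoc] using h3
  let tv : H → Fin 2 → F := fun g => b.repr (Additive.ofMul ⟨g * (π g : H)⁻¹, hπ g⟩)
  let P : H →* Matrix (Fin 2) (Fin 2) F :=
    (LinearMap.toMatrixAlgEquiv b).toMonoidHom.comp (L.comp (nm.comp (K.subtype.comp π)))
  have hcoc : ∀ g h, tv (g * h) = (P g).mulVec (tv h) + tv g := by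
    intro g h
    have key : Additive.ofMul (⟨g * h * (π (g * h) : H)⁻¹, hπ (g * h)⟩ : ↥f.A) =
        L (nm (π g : H)) (Additive.ofMul ⟨h * (π h : H)⁻¹, hπ h⟩) +
          Additive.ofMul ⟨g * (π g : H)⁻¹, hπ g⟩ := by
      refine (Additive.toMul.injective (Subtype.ext ?_)).trans (add_comm _ _)
      show g * h * (π (g * h) : H)⁻¹ = g * (π g : H)⁻¹ * ((π g : H) * (h * (π h : H)⁻¹) * (π g : H)⁻¹)
      rw [map_mul, Subgroup.coe_mul]
      group
    have h2 := congrArg (fun w => (b.repr w : Fin 2 → F)) key
    simp only [map_add, Finsupp.coe_add] at h2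
    refine h2.trans (congrArg (· + _) ?_)
    exact (LinearMap.toMatrix_mulVec_repr b b (L (nm (π g : H))) _).symm
  let Φ : H →* Matrix (Fin 3) (Fin 3) F :=
    ((Matrix.reindexAlgEquiv F F (finSumFinEquiv : Fin 2 ⊕ Fin 1 ≃ Fin 3)).toMonoidHom).comp
      { toFun := fun g => affine F (P g) (tv g)
        map_one' := by
          have h := hcoc 1 1
          rw [mul_one, map_one, Matrix.one_mulVec, left_eq_add] at h
          rw [map_one, h, affine, ← Matrix.fromBlocks_one]
          congr 1
        map_mul' := fun g h => by rw [affine_mul, map_mul, ← hcoc] }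
  have hΦ : Function.Injective Φ := by
    rw [injective_iff_map_eq_one]
    intro g hg
    have h1 : affine F (P g) (tv g) = affine F (P 1) (tv 1) :=
      (Matrix.reindexAlgEquiv F F (finSumFinEquiv : Fin 2 ⊕ Fin 1 ≃ Fin 3)).injective
        (hg.trans (map_one Φ).symm)
    obtain ⟨hP, ht⟩ := affine_inj F h1
    have hL : L (nm (π g : H)) = 1 := by
      rw [map_one] at hP
      exact (LinearMap.toMatrixAlgEquiv b).injective (hP.trans (map_one _).symm)
    have hπ1 : (π g : H) = 1 := by
      have hc' : (π g : H) ∈ centralizer (f.A : Set H) := mem_centralizer_iff.2 fun a ha =>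
        ((f.act_fix (nm (π g : H)) (Additive.ofMul ⟨a, ha⟩)).1 (LinearMap.congr_fun hL _)).symm
      rw [hCA] at hc'
      exact Subgroup.disjoint_def.1 hK.disjoint (π g).2 hc'
    have h2 := b.repr.injective (DFunLike.coe_injective ht)
    have h3 := congrArg (fun w => ((Additive.toMul w : ↥f.A) : H)) h2
    simp only [map_one, Subgroup.coe_one, inv_one, mul_one, toMul_ofMul] at h3
    rw [hπ1, inv_one, mul_one] at h3
    exact h3
  let Ψ : H →* GL (Fin 3) F := Φ.toHomUnits
  have hΨ : Function.Injective Ψ := fun g h e => hΦ (congrArg Units.val e)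
  refine ⟨(QuotientGroup.mk' _).comp Ψ, (injective_iff_map_eq_one _).2 fun g hg => ?_⟩
  have hcen := mem_center_iff.1 ((QuotientGroup.eq_one_iff _).1 hg : Ψ g ∈ center _)
  have hgA : g ∈ f.A := by
    rw [← hCA, mem_centralizer_iff]
    exact fun a _ => hΨ (by rw [map_mul, map_mul, hcen])
  have hπg : π g = 1 := by
    show hK.QuotientMulEquiv (QuotientGroup.mk' f.A g) = 1
    rw [QuotientGroup.mk'_apply, (QuotientGroup.eq_one_iff g).2 hgA, map_one]
  have hc0 : c ≠ 0 := fun e => by rw [e] at hc; simp at hc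
  let d : GL (Fin 3) F :=
    Units.map (Matrix.reindexAlgEquiv F F (finSumFinEquiv : Fin 2 ⊕ Fin 1 ≃ Fin 3)).toMonoidHom
      ⟨affine F (c • 1) 0, affine F (c⁻¹ • 1) 0,
        by rw [affine_mul, Matrix.mulVec_zero, add_zero, smul_mul_assoc, one_mul, smul_smul, mul_inv_cancel₀ hc0,
          one_smul, affine, ← Matrix.fromBlocks_one]; congr 1,
        by rw [affine_mul, Matrix.mulVec_zero, add_zero, smul_mul_assoc, one_mul, smul_smul, inv_mul_cancel₀ hc0,
          one_smul, affine, ← Matrix.fromBlocks_one]; congr 1⟩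
  have h1 := congrArg Units.val (hcen d)
  have h2 : affine F (c • 1) 0 * affine F (P g) (tv g) = affine F (P g) (tv g) * affine F (c • 1) 0 :=
    (Matrix.reindexAlgEquiv F F (finSumFinEquiv : Fin 2 ⊕ Fin 1 ≃ Fin 3)).injective (by
      rw [map_mul, map_mul]
      exact h1)
  rw [affine_mul, affine_mul] at h2
  obtain ⟨-, h3⟩ := affine_inj F h2
  rw [add_zero, Matrix.mulVec_zero, zero_add, Matrix.smul_mulVec, Matrix.one_mulVec] at h3
  have ht : tv g = 0 := funext fun i => by
    have h4 : c * tv g i = tv g i := congrFun h3 i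
    by_contra hne
    have hc1 : c = 1 := by simpa using mul_right_cancel₀ hne (h4.trans (one_mul _).symm)
    rw [hc1] at hc
    exact one_ne_zero (show (1 : F) = 0 by linear_combination hc - two_zero (F := F))
  have h4 : b.repr (Additive.ofMul (⟨g * (π g : H)⁻¹, hπ g⟩ : ↥f.A)) = 0 := DFunLike.coe_injective ht
  rw [LinearEquiv.map_eq_zero_iff] at h4
  have h5 := congrArg (fun w => ((Additive.toMul w : ↥f.A) : H)) h4
  simpa [hπg] using h5

end Frame

end CfsgLib.LThreeFour
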